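import Groth.Agent.Lib.FinGenH28.Basic
import Mathlib.RingTheory.ReesAlgebra

/-!
# Invariants deep in a stable ideal lie in a high power of the maximal ideal of invariants
-/

open TensorProduct HopfRep Groth.Agent.Comodule

universe u

namespace Groth.Agent.EtQuotH28

variable {k : Type u} [Field k] {A : Type u} [CommRing A] [HopfAlgebra k A]
  {R : Type u} [CommRing R] [Algebra k R] [Comod k A R] [GLin.IsCoactAlg k A R]

lemma isSubcomod_idealPow {I : Ideal R} (hI : IsSubcomod (k := k) (A := A) (I.restrictScalars k)) :
    ∀ n : ℕ, IsSubcomod (k := k) (A := A) ((I ^ n).restrictScalars k)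
  | 0 => by
    intro v _
    rw [pow_zero, Ideal.one_eq_top]
    exact ⟨(LinearMap.codRestrict ((⊤ : Ideal R).restrictScalars k) LinearMap.id fun _ => Submodule.mem_top).rTensor A
      (Comod.coact (k := k) (A := A) v), by rw [← LinearMap.rTensor_comp_apply]; simp⟩
  | n + 1 => by
    have ih := isSubcomod_idealPow hI n
    intro v hv
    show Comod.coact (k := k) (A := A) v ∈ tens A ((I ^ (n + 1)).restrictScalars k)
    rw [pow_succ, Submodule.restrictScalars_mem] at hv
    induction hv using Submodule.mul_induction_on' with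
    | mem_mul_mem a ha b hb =>
      rw [GLin.IsCoactAlg.coact_mul]
      refine tens_mono ?_ (Groth.Agent.FinGenH28.tens_mul (ih a ha) (hI b hb))
      rw [pow_succ]
      exact Submodule.mul_le.2 fun a ha b hb => Ideal.mul_mem_mul ha hb
    | add a _ b _ ha hb => rw [map_add]; exact add_mem ha hb

variable [IsNoetherianRing R]

/-- The filtration induced by the powers of a stable ideal is finer than the adic one. -/
theorem exists_pow_le (hG : IsLinearlyReductive k A) {I : Ideal R}
    (hI : IsSubcomod (k := k) (A := A) (I.restrictScalars k)) (x : R →ₐ[k] k) (hIx : I ≤ RingHom.ker x) (n : ℕ) :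
    ∃ N : ℕ, ∀ f : GLin.invariants k A R, (f : R) ∈ I ^ N →
      f ∈ RingHom.ker (x.comp (GLin.invariants k A R).val) ^ n := by
  classical
  obtain ⟨E, hE⟩ := exists_reynolds (V := R) (A := A) hG
  let G : Set (reesAlgebra I) := {z | ∃ (j : ℕ) (f : GLin.invariants k A R), 1 ≤ j ∧ (z : Polynomial R) = Polynomial.monomial j (f : R)}
  obtain ⟨T, hT, hspan⟩ := (Submodule.fg_span_iff_fg_span_finset_subset G).1
    (IsNoetherian.noetherian (Submodule.span (reesAlgebra I) G))
  choose j f hj hjf using fun t : T => hT t.2
  let d := Finset.univ.sup j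
  refine ⟨n * d + 1, ?_⟩
  suffices h : ∀ (n N : ℕ), n * d < N → ∀ g : GLin.invariants k A R, (g : R) ∈ I ^ N →
      g ∈ RingHom.ker (x.comp (GLin.invariants k A R).val) ^ n from fun g hg => h n _ (Nat.lt_succ_self _) g hg
  intro n
  induction n with
  | zero => intro N _ g _; simp
  | succ n ih =>
    intro N hN g hg
    let z : reesAlgebra I := ⟨Polynomial.monomial N (g : R), reesAlgebra.monomial_mem.2 hg⟩
    have hz : z ∈ Submodule.span (reesAlgebra I) (T : Set (reesAlgebra I)) :=
      hspan ▸ Submodule.subset_span ⟨N, g, by omega, rfl⟩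
    rw [show (T : Set (reesAlgebra I)) = Set.range (Subtype.val : T → reesAlgebra I) from Subtype.range_coe.symm,
      Submodule.mem_span_range_iff_exists_fun] at hz
    obtain ⟨c, hc⟩ := hz
    have hc' : (g : R) = ∑ t, if j t ≤ N then ((c t : Polynomial R).coeff (N - j t)) * (f t : R) else 0 := by
      have h := congrArg (fun w : reesAlgebra I => (w : Polynomial R).coeff N) hc
      simp only [z, Polynomial.coeff_monomial, if_true, AddSubmonoidClass.coe_finset_sum, smul_eq_mul,
        MulMemClass.coe_mul, Polynomial.finsetSum_coeff] at h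
      rw [← h]
      refine Finset.sum_congr rfl fun t _ => ?_
      rw [hjf t]
      split_ifs with hle
      · obtain ⟨i, hi⟩ := Nat.exists_eq_add_of_le hle
        subst hi
        rw [Nat.add_sub_cancel_left, add_comm, Polynomial.coeff_mul_monomial]
      · rw [← Polynomial.C_mul_X_pow_eq_monomial, ← mul_assoc, Polynomial.coeff_mul_X_pow', if_neg hle]
    have hg' : g = ∑ t, if j t ≤ N then (⟨E ((c t : Polynomial R).coeff (N - j t)), hE.mem _⟩ : GLin.invariants k A R) * f t else 0 := by
      refine Subtype.ext ?_
      conv_lhs => rw [← (hE.fix (g : R)).2 g.2, hc', map_sum]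
      rw [AddSubmonoidClass.coe_finset_sum]
      refine Finset.sum_congr rfl fun t _ => ?_
      split_ifs
      · exact Groth.Agent.HopfMod.reynolds_mul_invariant hG hE _ (f t).2
      · exact map_zero E
    rw [hg']
    refine sum_mem fun t _ => ?_
    split_ifs with hle
    · rw [pow_succ]
      refine Ideal.mul_mem_mul (ih (N - j t) ?_ _ (hE.apply_mem hG (isSubcomod_idealPow hI _) ((c t).2 _))) ?_
      · have : j t ≤ d := Finset.le_sup (f := j) (Finset.mem_univ t)
        rw [Nat.succ_mul] at hN
        omega
      · rw [RingHom.mem_ker]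
        have hmem := (t.1).2 (j t)
        rw [hjf t, Polynomial.coeff_monomial, if_pos rfl] at hmem
        exact hIx (Ideal.pow_le_self (Nat.one_le_iff_ne_zero.1 (hj t)) hmem)
    · exact zero_mem _

end Groth.Agent.EtQuotH28
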