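import Groth.Agent.Lib.EtQuotH28.Orbit
import Groth.Agent.Lib.EtQuotH28.Rees
import Groth.Agent.Lib.FlatH4.LocCrit
import Groth.Agent.Lib.InfSmooth4.Ring
import Groth.Agent.S11793
import Mathlib.RingTheory.Unramified.LocalRing
import Mathlib.RingTheory.Smooth.Fiber

/-!
# The quotient of an étale map injective on a closed orbit is étale
-/

open TensorProduct HopfRep IsLocalRing Groth.Agent.Comodule

universe u

namespace Groth.Agent.EtQuotH28

/-- Unramified and flat at a prime implies étale at it. -/
theorem isEtaleAt_of_flat_of_isUnramifiedAt {P Q : Type u} [CommRing P] [CommRing Q] [Algebra P Q]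
    [Algebra.FinitePresentation P Q] (q : Ideal Q) [q.IsPrime] [Module.Flat P (Localization.AtPrime q)]
    [Algebra.IsUnramifiedAt P q] : Algebra.IsEtaleAt P q := by
  obtain ⟨f, hfq, hf⟩ := Algebra.exists_unramified_of_isUnramifiedAt (R := P) q
  let Qf := Localization.Away f
  haveI : Algebra.FormallyUnramified P Qf := inferInstance
  have hdisj : Disjoint ((Submonoid.powers f : Submonoid Q) : Set Q) (q : Set Q) := by
    rw [Set.disjoint_left]
    rintro z ⟨i, rfl⟩ hz
    exact hfq (Ideal.IsPrime.mem_of_pow_mem ‹_› i hz)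
  let q' : Ideal Qf := q.map (algebraMap Q Qf)
  haveI : q'.IsPrime := IsLocalization.isPrime_of_isPrime_disjoint (Submonoid.powers f) Qf q inferInstance hdisj
  have hcomap : q'.comap (algebraMap Q Qf) = q :=
    IsLocalization.comap_map_of_isPrime_disjoint (Submonoid.powers f) Qf inferInstance hdisj
  haveI hloc : IsLocalization.AtPrime (Localization.AtPrime q') q := by
    have := IsLocalization.isLocalization_isLocalization_atPrime_isLocalization (Submonoid.powers f)
      (Localization.AtPrime q') q'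
    simpa only [hcomap] using this
  let e : Localization.AtPrime q ≃ₐ[P] Localization.AtPrime q' :=
    (IsLocalization.algEquiv q.primeCompl (Localization.AtPrime q) (Localization.AtPrime q')).restrictScalars P
  haveI : Module.Flat P (Localization.AtPrime q') := Module.Flat.of_linearEquiv e.symm.toLinearEquiv
  haveI : Algebra.FinitePresentation P Qf := by
    haveI : Algebra.FinitePresentation Q Qf := .of_isLocalizationAway f
    exact .trans P Q Qf
  haveI : q'.LiesOver (q'.under P) := ⟨rfl⟩
  haveI : Algebra.FormallySmooth (q'.under P).ResidueField ((q'.under P).Fiber Qf) := by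
    haveI := Algebra.FormallyEtale.of_formallyUnramified_of_field (q'.under P).ResidueField ((q'.under P).Fiber Qf)
    infer_instance
  haveI := Groth.Agent.InfSmooth4.isSmoothAt_of_formallySmooth_fiber (q'.under P) q'
  haveI : Algebra.FormallySmooth P (Localization.AtPrime q) :=
    Algebra.FormallySmooth.of_equiv e.symm
  exact Algebra.FormallyEtale.of_formallyUnramified_and_formallySmooth

variable {P Q : Type u} [CommRing P] [CommRing Q] [Algebra P Q]

/-- A criterion: same infinitesimal neighbourhoods. -/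
theorem isEtaleAt_of_thickenings [IsNoetherianRing P] [IsNoetherianRing Q] [Algebra.FinitePresentation P Q]
    (p : Ideal P) [p.IsMaximal] (q : Ideal Q) [q.IsMaximal] (hpq : q.comap (algebraMap P Q) = p)
    (hsurj : ∀ (r : Q) (n : ℕ), ∃ s : P, r - algebraMap P Q s ∈ q ^ n)
    (hinj : ∀ n : ℕ, ∃ N : ℕ, ∀ s : P, algebraMap P Q s ∈ q ^ N → s ∈ p ^ n) :
    Algebra.IsEtaleAt P q := by
  have hpq' : p.map (algebraMap P Q) ≤ q := Ideal.map_le_iff_le_comap.2 hpq.ge
  have h1 : ∀ M : ℕ, q ≤ p.map (algebraMap P Q) ⊔ q ^ (M + 1) := by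
    intro M r hr
    obtain ⟨s, hs⟩ := hsurj r (M + 1)
    have hsp : s ∈ p := by
      rw [← hpq, Ideal.mem_comap, show algebraMap P Q s = r - (r - algebraMap P Q s) by ring]
      exact sub_mem hr (Ideal.pow_le_self M.succ_ne_zero hs)
    rw [← sub_add_cancel r (algebraMap P Q s)]
    exact add_mem (Ideal.mem_sup_right hs) (Ideal.mem_sup_left (Ideal.mem_map_of_mem _ hsp))
  have hpow : ∀ (n M : ℕ), q ^ n ≤ (p ^ n).map (algebraMap P Q) ⊔ q ^ (M + 1) := by
    intro n M
    induction n with
    | zero => simp [Ideal.map_top]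
    | succ n ih =>
      rw [pow_succ (q), pow_succ p, Ideal.map_mul]
      refine (Ideal.mul_mono ih (h1 M)).trans ?_
      rw [Ideal.mul_sup, Ideal.sup_mul, Ideal.sup_mul]
      refine sup_le (sup_le le_sup_left (le_sup_of_le_right Ideal.mul_le_left)) (le_sup_of_le_right ?_)
      exact sup_le Ideal.mul_le_right Ideal.mul_le_right
  let L := Localization.AtPrime q
  have hqL : q.map (algebraMap Q L) = maximalIdeal L := IsLocalization.AtPrime.map_eq_maximalIdeal q L
  have hmax : p.map (algebraMap P L) = maximalIdeal L := by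
    refine le_antisymm ?_ ?_
    · rw [IsScalarTower.algebraMap_eq P Q L, ← Ideal.map_map, ← hqL]
      exact Ideal.map_mono hpq'
    · refine Submodule.le_of_le_smul_of_le_jacobson_bot (IsNoetherian.noetherian _) (maximalIdeal_le_jacobson _) ?_
      conv_lhs => rw [← hqL]
      rw [IsScalarTower.algebraMap_eq P Q L, ← Ideal.map_map, smul_eq_mul, ← pow_two, ← hqL, ← Ideal.map_pow,
        ← Ideal.map_sup]
      exact Ideal.map_mono (h1 1)
  have hsurjL : ∀ (z : L) (n : ℕ), ∃ s : P, z - algebraMap P L s ∈ maximalIdeal L ^ n := by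
    intro z n
    obtain ⟨r, t, rfl⟩ := IsLocalization.exists_mk'_eq q.primeCompl z
    obtain ⟨v, hv⟩ : ∃ v : Q, (t : Q) * v - 1 ∈ q ^ n := by
      have h : IsUnit (Ideal.Quotient.mk (q ^ n) (t : Q)) := by
        rcases Nat.eq_zero_or_pos n with rfl | hn
        · haveI : Subsingleton (Q ⧸ q ^ 0) := Ideal.Quotient.subsingleton_iff.2 (by simp)
          exact isUnit_of_subsingleton _
        · obtain ⟨v, hv⟩ := Ideal.Quotient.exists_inv (I := q) (fun h => t.2 (Ideal.Quotient.eq_zero_iff_mem.1 h))
          obtain ⟨v, rfl⟩ := Ideal.Quotient.mk_surjective v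
          rw [← map_mul, ← map_one (Ideal.Quotient.mk q), Ideal.Quotient.eq] at hv
          refine isUnit_of_mul_isUnit_left (y := Ideal.Quotient.mk (q ^ n) v) ?_
          have hnil : IsNilpotent (Ideal.Quotient.mk (q ^ n) ((t : Q) * v - 1)) := ⟨n, by
            rw [← map_pow, Ideal.Quotient.eq_zero_iff_mem]; exact Ideal.pow_mem_pow hv n⟩
          have h := hnil.isUnit_add_one
          rwa [← map_one (Ideal.Quotient.mk (q ^ n)), ← map_add, sub_add_cancel, map_mul] at h
      obtain ⟨v, hv⟩ := h.exists_right_inv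
      obtain ⟨v, rfl⟩ := Ideal.Quotient.mk_surjective v
      exact ⟨v, Ideal.Quotient.eq.1 (by rw [map_mul, hv, map_one])⟩
    obtain ⟨s, hs⟩ := hsurj (r * v) n
    refine ⟨s, ?_⟩
    rw [← hqL, ← Ideal.map_pow]
    have e : IsLocalization.mk' L r t - algebraMap P L s = IsLocalization.mk' L r t * algebraMap Q L (-((t : Q) * v - 1)) +
        algebraMap Q L (r * v - algebraMap P Q s) := by
      rw [IsScalarTower.algebraMap_apply P Q L, map_sub, map_neg, map_sub, map_mul, map_mul, map_one,
        neg_sub, mul_sub, mul_one, ← mul_assoc, IsLocalization.mk'_spec]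
      ring
    rw [e]
    exact add_mem (Ideal.mul_mem_left _ _ (Ideal.mem_map_of_mem _ (neg_mem hv))) (Ideal.mem_map_of_mem _ hs)
  have hinjL : ∀ (n : ℕ) (s : P), algebraMap P L s ∈ maximalIdeal L ^ n → s ∈ p ^ n := by
    intro n s hs
    rw [← hqL, ← Ideal.map_pow, IsScalarTower.algebraMap_apply P Q L,
      IsLocalization.algebraMap_mem_map_algebraMap_iff q.primeCompl] at hs
    obtain ⟨t, ht, hts⟩ := hs
    have hsq : algebraMap P Q s ∈ q ^ n := by
      rcases Nat.eq_zero_or_pos n with rfl | hn
      · simp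
      · have hmem : t ∉ (q ^ n).radical := fun h => ht (by
          have := (Ideal.radical_pow q hn.ne') ▸ h
          rwa [(‹q.IsMaximal›.isPrime).radical] at this)
        exact ((Ideal.isPrimary_iff.1 (Ideal.isPrimary_of_isMaximal_radical (by
          rw [Ideal.radical_pow q hn.ne', (‹q.IsMaximal›.isPrime).radical]; infer_instance))).2
          (show algebraMap P Q s * t ∈ q ^ n by rwa [mul_comm] at hts)).resolve_right hmem
    obtain ⟨N, hN⟩ := hinj n
    obtain ⟨a, ha, b, hb, hab⟩ := Submodule.mem_sup.1 (hpow n N hsq)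
    -- replace `a` by the image of an element of `p ^ n`
    have key : ∀ a ∈ (p ^ n).map (algebraMap P Q), ∃ s' ∈ p ^ n, a - algebraMap P Q s' ∈ q ^ (N + 1) := by
      intro a ha
      induction ha using Submodule.span_induction with
      | mem z hz => obtain ⟨s', hs', rfl⟩ := hz; exact ⟨s', hs', by rw [sub_self]; exact zero_mem _⟩
      | zero => exact ⟨0, zero_mem _, by simp⟩
      | add z w _ _ hz hw =>
        obtain ⟨s₁, h₁, h₁'⟩ := hz
        obtain ⟨s₂, h₂, h₂'⟩ := hw
        exact ⟨s₁ + s₂, add_mem h₁ h₂, by rw [map_add, add_sub_add_comm]; exact add_mem h₁' h₂'⟩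
      | smul c z _ hz =>
        obtain ⟨s₁, h₁, h₁'⟩ := hz
        obtain ⟨d, hd⟩ := hsurj c (N + 1)
        refine ⟨d * s₁, Ideal.mul_mem_left _ d h₁, ?_⟩
        rw [smul_eq_mul, show c * z - algebraMap P Q (d * s₁) =
          c * (z - algebraMap P Q s₁) + (c - algebraMap P Q d) * algebraMap P Q s₁ by rw [map_mul]; ring]
        exact add_mem (Ideal.mul_mem_left _ _ h₁') (Ideal.mul_mem_right _ _ hd)
    obtain ⟨s', hs', ha'⟩ := key a ha
    have : s - s' ∈ p ^ n := by
      refine hN _ (Ideal.pow_le_pow_right (Nat.le_succ N) ?_)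
      rw [map_sub, ← hab, show a + b - algebraMap P Q s' = (a - algebraMap P Q s') + b by ring]
      exact add_mem ha' hb
    simpa using add_mem this hs'
  haveI : Module.Flat P L := by
    refine Groth.Agent.FlatH4.flat_of_forall_pow (S := L) p ?_ fun n M => ?_
    · rw [hmax]; exact maximalIdeal_le_jacobson _
    · have hel : ∀ y : L ⊗[P] M, ∃ z : M, y = 1 ⊗ₜ z := by
        intro y
        induction y with
        | zero => exact ⟨0, by simp⟩
        | add u v hu hv =>
          obtain ⟨a, rfl⟩ := hu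
          obtain ⟨b, rfl⟩ := hv
          exact ⟨a + b, by rw [tmul_add]⟩
        | tmul l z =>
          obtain ⟨s, hs⟩ := hsurjL l n
          refine ⟨s • z, ?_⟩
          rw [← hmax, ← Ideal.map_pow] at hs
          have h0 : ∀ w ∈ (p ^ n).map (algebraMap P L), w ⊗ₜ[P] z = 0 := by
            intro w hw
            induction hw using Submodule.span_induction with
            | mem w hw =>
              obtain ⟨a, ha, rfl⟩ := hw
              rw [Algebra.algebraMap_eq_smul_one, smul_tmul]
              have : a • z = 0 := Subtype.ext (by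
                show a • (z : P ⧸ p ^ n) = 0
                obtain ⟨b, hb⟩ := Ideal.Quotient.mk_surjective (z : P ⧸ p ^ n)
                rw [← hb]
                exact Ideal.Quotient.eq_zero_iff_mem.2 (Ideal.mul_mem_right b _ ha))
              rw [this, tmul_zero]
            | zero => simp
            | add u v _ _ hu hv => rw [add_tmul, hu, hv, add_zero]
            | smul c u _ hu =>
              have := congrArg (fun y => c • y) hu
              simpa [smul_tmul'] using this
          rw [← smul_tmul, ← Algebra.algebraMap_eq_smul_one, ← sub_eq_zero, ← sub_tmul]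
          exact h0 _ hs
      rw [injective_iff_map_eq_zero]
      intro y hy
      obtain ⟨z, rfl⟩ := hel y
      obtain ⟨s, hs⟩ := Ideal.Quotient.mk_surjective (z : P ⧸ p ^ n)
      rw [LinearMap.lTensor_tmul, show M.subtype z = s • (1 : P ⧸ p ^ n) from by
        rw [Submodule.subtype_apply, ← hs]; simp [Algebra.smul_def], ← smul_tmul,
        ← Algebra.algebraMap_eq_smul_one] at hy
      let μ : L ⊗[P] (P ⧸ p ^ n) →ₐ[P] L ⧸ (p ^ n).map (algebraMap P L) :=
        Algebra.TensorProduct.lift (Ideal.Quotient.mkₐ P _)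
          (Ideal.Quotient.liftₐ _ (Algebra.ofId P _) fun a ha =>
            Ideal.Quotient.eq_zero_iff_mem.2 (Ideal.mem_map_of_mem _ ha))
          fun _ _ => Commute.all _ _
      have h2 := congrArg μ hy
      rw [map_zero] at h2
      have h3 : Ideal.Quotient.mk ((p ^ n).map (algebraMap P L)) (algebraMap P L s) = 0 := by
        simpa [μ] using h2
      rw [Ideal.Quotient.eq_zero_iff_mem, Ideal.map_pow, hmax] at h3
      have hz0 : z = 0 := Subtype.ext (by rw [← hs]; exact Ideal.Quotient.eq_zero_iff_mem.2 (hinjL n s h3))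
      rw [hz0, tmul_zero]
  haveI : Algebra.IsUnramifiedAt P q := by
    haveI : q.LiesOver p := ⟨hpq.symm⟩
    letI := Localization.AtPrime.algebraOfLiesOver p q
    refine (Algebra.isUnramifiedAt_iff_map_eq P p q).2 ⟨?_, hmax⟩
    have hres : Function.Surjective (algebraMap p.ResidueField q.ResidueField) := by
      intro z
      obtain ⟨w, rfl⟩ := Ideal.Quotient.mk_surjective z
      obtain ⟨s, hs⟩ := hsurjL w 1
      rw [pow_one] at hs
      refine ⟨algebraMap P p.ResidueField s, ?_⟩
      rw [← IsScalarTower.algebraMap_apply, IsScalarTower.algebraMap_apply P L q.ResidueField]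
      exact (Ideal.Quotient.eq.2 hs).symm
    let e : p.ResidueField ≃ₐ[p.ResidueField] q.ResidueField :=
      AlgEquiv.ofBijective (Algebra.ofId _ _) ⟨(algebraMap p.ResidueField q.ResidueField).injective, hres⟩
    exact AlgEquiv.Algebra.isSeparable e
  exact isEtaleAt_of_flat_of_isUnramifiedAt q

section Hopf

variable {k : Type u} [Field k] [IsAlgClosed k] [CharZero k] {A : Type u} [CommRing A] [HopfAlgebra k A]
  [Algebra.FiniteType k A] [IsDomain A]
  {S : Type u} [CommRing S] [Algebra k S] [Algebra.FiniteType k S] [Comod k A S] [GLin.IsCoactAlg k A S]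
  {R : Type u} [CommRing R] [Algebra k R] [Algebra.FiniteType k R] [Comod k A R] [GLin.IsCoactAlg k A R]
  [Algebra S R] [IsScalarTower k S R] [IsReduced R] [IsReduced S]
  {S₀ : Type u} [CommRing S₀] [Algebra k S₀] [Algebra S₀ S] [IsScalarTower k S₀ S]
  {R₀ : Type u} [CommRing R₀] [Algebra k R₀] [Algebra R₀ R] [IsScalarTower k R₀ R]
  [Algebra S₀ R₀] [Algebra S₀ R] [IsScalarTower S₀ S R] [IsScalarTower S₀ R₀ R]

omit [Algebra S R] [IsScalarTower k S R] [IsReduced R] [IsReduced S] [Algebra S₀ R₀] [Algebra S₀ R]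
  [IsScalarTower S₀ S R] [IsScalarTower S₀ R₀ R] [Algebra.FiniteType k S] [IsDomain A] in
lemma finiteType_invariants (hG : IsLinearlyReductive k A) (hR₀i : Function.Injective (algebraMap R₀ R))
    (hR₀ : (IsScalarTower.toAlgHom k R₀ R).range = GLin.invariants k A R) : Algebra.FiniteType k R₀ := by
  obtain ⟨s, hs, hgen⟩ := Groth.Agent.S11793.result k A hG R
    (fun f g => GLin.IsCoactAlg.coact_mul f g) GLin.IsCoactAlg.coact_one
  have : (GLin.invariants k A R).FG := ⟨s, le_antisymm (Algebra.adjoin_le fun f hf => hs f hf) fun f hf => hgen f hf⟩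
  haveI : Algebra.FiniteType k (GLin.invariants k A R) := (Subalgebra.fg_iff_finiteType _).1 this
  let e : R₀ ≃ₐ[k] GLin.invariants k A R :=
    (AlgEquiv.ofInjective (IsScalarTower.toAlgHom k R₀ R) hR₀i).trans (Subalgebra.equivOfEq _ _ hR₀)
  exact Algebra.FiniteType.equiv inferInstance e.symm

omit [IsReduced R] [IsReduced S] [Algebra S R] [IsScalarTower k S R] [Algebra S₀ R₀] [Algebra S₀ R]
  [IsScalarTower S₀ S R] [IsScalarTower S₀ R₀ R] [Algebra.FiniteType k S] [IsDomain A] in
/-- Invariants deep along a closed orbit are deep at its image. -/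
theorem exists_deep (hG : IsLinearlyReductive k A) (hR₀i : Function.Injective (algebraMap R₀ R))
    (hR₀ : (IsScalarTower.toAlgHom k R₀ R).range = GLin.invariants k A R) (x : R →ₐ[k] k)
    (q : Ideal R₀) (hq : q = (RingHom.ker x).comap (algebraMap R₀ R)) (n : ℕ) :
    ∃ N, ∀ r : R₀, algebraMap R₀ R r ∈ RingHom.ker (GLin.orbitHom k A x) ^ N → r ∈ q ^ n := by
  haveI : IsNoetherianRing R := Algebra.FiniteType.isNoetherianRing k R
  obtain ⟨N, hN⟩ := exists_pow_le hG (isSubcomod_ker_orbitHom (A := A) x) x (fun g hg => by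
    rw [RingHom.mem_ker, ← counit_orbitHom (A := A) x, show GLin.orbitHom k A x g = 0 from hg, map_zero]) n
  refine ⟨N, fun r hr => ?_⟩
  let e : R₀ ≃ₐ[k] GLin.invariants k A R :=
    (AlgEquiv.ofInjective (IsScalarTower.toAlgHom k R₀ R) hR₀i).trans (Subalgebra.equivOfEq _ _ hR₀)
  have h := hN (e r) hr
  have hk : (RingHom.ker (x.comp (GLin.invariants k A R).val)).map e.symm.toRingEquiv.toRingHom ≤ q := by
    refine Ideal.map_le_iff_le_comap.2 fun g hg => ?_
    obtain ⟨r', rfl⟩ := e.surjective g
    rw [hq, Ideal.mem_comap, Ideal.mem_comap, RingHom.mem_ker]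
    show x (algebraMap R₀ R (e.symm (e r'))) = 0
    rw [e.symm_apply_apply]
    exact hg
  have := Ideal.mem_map_of_mem e.symm.toRingEquiv.toRingHom h
  rw [Ideal.map_pow] at this
  have h' := Ideal.pow_right_mono hk n this
  simpa using h'

omit [IsReduced R] [IsReduced S] [IsDomain A] in
/-- Invariants of the source are approximated by those of the target. -/
theorem exists_sub_mem_pow (hG : IsLinearlyReductive k A)
    (hequiv : ∀ s : S, Comod.coact (k := k) (A := A) (algebraMap S R s) =
      Algebra.TensorProduct.map (IsScalarTower.toAlgHom k S R) (AlgHom.id k A) (Comod.coact (k := k) (A := A) s))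
    (hS₀ : (IsScalarTower.toAlgHom k S₀ S).range = GLin.invariants k A S)
    (hR₀i : Function.Injective (algebraMap R₀ R)) (hR₀ : (IsScalarTower.toAlgHom k R₀ R).range = GLin.invariants k A R)
    (x : R →ₐ[k] k) (q : Ideal R₀) (hq : q = (RingHom.ker x).comap (algebraMap R₀ R))
    (hthick : ∀ (N : ℕ) (r : R), ∃ s : S, r - algebraMap S R s ∈ RingHom.ker (GLin.orbitHom k A x) ^ (N + 1))
    (r : R₀) (n : ℕ) : ∃ s : S₀, r - algebraMap S₀ R₀ s ∈ q ^ n := by
  obtain ⟨N, hN⟩ := exists_deep (A := A) hG hR₀i hR₀ x q hq n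
  obtain ⟨s, hs⟩ := hthick N (algebraMap R₀ R r)
  obtain ⟨E, hE⟩ := exists_reynolds (V := R) (A := A) hG
  obtain ⟨E', hE'⟩ := exists_reynolds (V := S) (A := A) hG
  obtain ⟨s₀, hs₀⟩ : E' s ∈ (IsScalarTower.toAlgHom k S₀ S).range := by rw [hS₀]; exact hE'.mem s
  refine ⟨s₀, hN _ (Ideal.pow_le_pow_right (Nat.le_succ N) ?_)⟩
  have h := hE.apply_mem hG (isSubcomod_idealPow (isSubcomod_ker_orbitHom (A := A) x) (N + 1)) hs
  have e : E (algebraMap S R s) = algebraMap S R (E' s) :=
    LinearMap.congr_fun (hE'.comp_comm hG hE (isComodHom_algebraMap hequiv)) s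
  have hmemR : algebraMap R₀ R r ∈ GLin.invariants k A R := hR₀ ▸ ⟨r, rfl⟩
  rw [map_sub, (hE.fix _).2 hmemR, e, ← show algebraMap S₀ S s₀ = E' s from hs₀] at h
  rw [map_sub, ← IsScalarTower.algebraMap_apply, IsScalarTower.algebraMap_apply S₀ S R]
  exact h

theorem isEtaleAt_quotient (hG : IsLinearlyReductive k A)
    (hequiv : ∀ s : S, Comod.coact (k := k) (A := A) (algebraMap S R s) =
      Algebra.TensorProduct.map (IsScalarTower.toAlgHom k S R) (AlgHom.id k A) (Comod.coact (k := k) (A := A) s))
    (hS₀i : Function.Injective (algebraMap S₀ S)) (hS₀ : (IsScalarTower.toAlgHom k S₀ S).range = GLin.invariants k A S)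
    (hR₀i : Function.Injective (algebraMap R₀ R)) (hR₀ : (IsScalarTower.toAlgHom k R₀ R).range = GLin.invariants k A R)
    {x : R →ₐ[k] k} (hx : GLin.IsClosedOrbit k A x)
    (hy : GLin.IsClosedOrbit k A (x.comp (IsScalarTower.toAlgHom k S R)))
    (het : Algebra.IsEtaleAt S (RingHom.ker x))
    (hinj : ∀ g : A →ₐ[k] k, GLin.actPt k g (x.comp (IsScalarTower.toAlgHom k S R)) =
      x.comp (IsScalarTower.toAlgHom k S R) → GLin.actPt k g x = x)
    (q : Ideal R₀) [q.IsPrime] (hq : q = (RingHom.ker x).comap (algebraMap R₀ R)) :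
    Algebra.IsEtaleAt S₀ q := by
  obtain ⟨c, hc, hcet⟩ := exists_etale_nbhd hequiv hx het
  have hthick := thickening_iso hequiv hy hinj hc hcet
  haveI : IsNoetherianRing R := Algebra.FiniteType.isNoetherianRing k R
  haveI : IsNoetherianRing S := Algebra.FiniteType.isNoetherianRing k S
  haveI := finiteType_invariants hG hR₀i hR₀
  haveI := finiteType_invariants hG hS₀i hS₀
  haveI hT : IsScalarTower k S₀ R₀ := IsScalarTower.of_algebraMap_eq fun c => hR₀i (by
    rw [← IsScalarTower.algebraMap_apply, ← IsScalarTower.algebraMap_apply,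
      IsScalarTower.algebraMap_apply S₀ S R, ← IsScalarTower.algebraMap_apply k S₀ S, ← IsScalarTower.algebraMap_apply])
  haveI : IsNoetherianRing R₀ := Algebra.FiniteType.isNoetherianRing k R₀
  haveI : IsNoetherianRing S₀ := Algebra.FiniteType.isNoetherianRing k S₀
  haveI : Algebra.FiniteType S₀ R₀ := Algebra.FiniteType.of_restrictScalars_finiteType k S₀ R₀
  haveI : Algebra.FinitePresentation S₀ R₀ := Algebra.FinitePresentation.of_finiteType.1 inferInstance
  set y := x.comp (IsScalarTower.toAlgHom k S R) with hydef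
  let p : Ideal S₀ := RingHom.ker (y.comp (IsScalarTower.toAlgHom k S₀ S))
  haveI : p.IsMaximal := RingHom.ker_isMaximal_of_surjective _ fun c =>
    ⟨algebraMap k S₀ c, AlgHom.commutes _ c⟩
  have hq' : q = RingHom.ker (x.comp (IsScalarTower.toAlgHom k R₀ R)) := hq.trans rfl
  haveI : q.IsMaximal := hq' ▸ RingHom.ker_isMaximal_of_surjective _ fun c =>
    ⟨algebraMap k R₀ c, AlgHom.commutes _ c⟩
  have hpq : q.comap (algebraMap S₀ R₀) = p := by
    ext s
    rw [hq]
    show x (algebraMap R₀ R (algebraMap S₀ R₀ s)) = 0 ↔ x (algebraMap S R (algebraMap S₀ S s)) = 0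
    rw [← IsScalarTower.algebraMap_apply, ← IsScalarTower.algebraMap_apply]
  let I := RingHom.ker (GLin.orbitHom k A x)
  let J := RingHom.ker (GLin.orbitHom k A y)
  have hmemR : ∀ r : R₀, algebraMap R₀ R r ∈ GLin.invariants k A R := fun r => hR₀ ▸ ⟨r, rfl⟩
  refine isEtaleAt_of_thickenings p q hpq
    (exists_sub_mem_pow hG hequiv hS₀ hR₀i hR₀ x q hq fun N => (hthick N).1) (fun n => ?_)
  · obtain ⟨N, hN⟩ := exists_pow_le hG (isSubcomod_ker_orbitHom (A := A) y) y (fun g hg => by
      rw [RingHom.mem_ker, ← counit_orbitHom (A := A) y, show GLin.orbitHom k A y g = 0 from hg, map_zero]) n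
    refine ⟨N + 1, fun s hs => ?_⟩
    let e : S₀ ≃ₐ[k] GLin.invariants k A S :=
      (AlgEquiv.ofInjective (IsScalarTower.toAlgHom k S₀ S) hS₀i).trans (Subalgebra.equivOfEq _ _ hS₀)
    have hqI : q ≤ I.comap (algebraMap R₀ R) := fun r hr => by
      show GLin.orbitHom k A x (algebraMap R₀ R r) = 0
      rw [hq] at hr
      rw [orbitHom_of_mem_invariants x (hmemR r)]
      rw [Ideal.mem_comap, RingHom.mem_ker] at hr
      simp [hr]
    have h1 : algebraMap S R (algebraMap S₀ S s) ∈ I ^ (N + 1) := by
      rw [← IsScalarTower.algebraMap_apply, IsScalarTower.algebraMap_apply S₀ R₀ R]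
      exact (Ideal.pow_right_mono hqI (N + 1)).trans (Ideal.le_comap_pow _ _) hs
    have h := hN (e s) (Ideal.pow_le_pow_right (Nat.le_succ N) ((hthick N).2 _ h1))
    have hk : (RingHom.ker (y.comp (GLin.invariants k A S).val)).map e.symm.toRingEquiv.toRingHom ≤ p := by
      refine Ideal.map_le_iff_le_comap.2 fun g hg => ?_
      obtain ⟨r', rfl⟩ := e.surjective g
      rw [Ideal.mem_comap]
      show y (algebraMap S₀ S (e.symm (e r'))) = 0
      rw [e.symm_apply_apply]
      exact hg
    have := Ideal.mem_map_of_mem e.symm.toRingEquiv.toRingHom h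
    rw [Ideal.map_pow] at this
    have h' := Ideal.pow_right_mono hk n this
    simpa using h'

end Hopf

end Groth.Agent.EtQuotH28
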