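import Groth.Prelude.Def_GLin
import Groth.Agent.Lib.Comodule.CoactAlg
import Mathlib.RingTheory.TensorProduct.Maps

/-!
# Tensor products of comodule algebras over a ring of invariants
-/

open TensorProduct HopfRep Groth.Agent.Comodule

universe u

namespace Groth.Agent.EtQuotH28

variable {k : Type u} [Field k] {A : Type u} [CommRing A] [HopfAlgebra k A]

/-- The regular comodule is a comodule algebra. -/
lemma regular_isCoactAlg : GLin.IsCoactAlg k A A where
  coact_one := Bialgebra.comul_one
  coact_mul := Bialgebra.comul_mul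

variable {S₀ : Type u} [CommRing S₀] [Algebra k S₀]
  {S : Type u} [CommRing S] [Algebra k S] [Algebra S₀ S] [IsScalarTower k S₀ S] [Comod k A S] [GLin.IsCoactAlg k A S]
  {B : Type u} [CommRing B] [Algebra k B] [Algebra S₀ B] [IsScalarTower k S₀ B] [Comod k A B] [GLin.IsCoactAlg k A B]
  (hS : ∀ s₀, algebraMap S₀ S s₀ ∈ GLin.invariants k A S) (hB : ∀ s₀, algebraMap S₀ B s₀ ∈ GLin.invariants k A B)

variable (S₀ S B) in
/-- The first factor. -/
noncomputable def incL : S →ₐ[k] S ⊗[S₀] B :=
  (Algebra.TensorProduct.includeLeft : S →ₐ[S₀] S ⊗[S₀] B).restrictScalars k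

variable (S₀ S B) in
/-- The second factor. -/
noncomputable def incR : B →ₐ[k] S ⊗[S₀] B :=
  (Algebra.TensorProduct.includeRight : B →ₐ[S₀] S ⊗[S₀] B).restrictScalars k

@[simp] lemma incL_apply (s : S) : incL S₀ S B (k := k) s = s ⊗ₜ[S₀] 1 := rfl

@[simp] lemma incR_apply (b : B) : incR S₀ S B (k := k) b = 1 ⊗ₜ[S₀] b := rfl

/-- Two maps out of the tensor product agreeing on the factors agree. -/
lemma algHom_ext {C : Type*} [CommSemiring C] [Algebra k C] {F G : S ⊗[S₀] B →ₐ[k] C}
    (h1 : ∀ s, F (s ⊗ₜ[S₀] 1) = G (s ⊗ₜ[S₀] 1)) (h2 : ∀ b, F (1 ⊗ₜ[S₀] b) = G (1 ⊗ₜ[S₀] b)) : F = G := by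
  refine AlgHom.ext fun z => ?_
  induction z with
  | zero => simp
  | add p q hp hq => rw [map_add, map_add, hp, hq]
  | tmul s b =>
    rw [show s ⊗ₜ[S₀] b = (s ⊗ₜ[S₀] (1 : B)) * ((1 : S) ⊗ₜ[S₀] b) by rw [Algebra.TensorProduct.tmul_mul_tmul, mul_one, one_mul],
      map_mul, map_mul, h1, h2]

/-- The coaction as an `S₀`-algebra map on the first factor. -/
noncomputable def coactL : S →ₐ[S₀] (S ⊗[S₀] B) ⊗[k] A where
  toRingHom := ((Algebra.TensorProduct.map (incL S₀ S B) (AlgHom.id k A)).comp (GLin.coactAlgHom k A S)).toRingHom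
  commutes' s₀ := by
    show Algebra.TensorProduct.map (incL S₀ S B) (AlgHom.id k A) (Comod.coact (k := k) (A := A) (algebraMap S₀ S s₀)) = _
    rw [show Comod.coact (k := k) (A := A) (algebraMap S₀ S s₀) = algebraMap S₀ S s₀ ⊗ₜ[k] (1 : A) from hS s₀]
    rfl

/-- The coaction as an `S₀`-algebra map on the second factor. -/
noncomputable def coactR : B →ₐ[S₀] (S ⊗[S₀] B) ⊗[k] A where
  toRingHom := ((Algebra.TensorProduct.map (incR S₀ S B) (AlgHom.id k A)).comp (GLin.coactAlgHom k A B)).toRingHom
  commutes' s₀ := by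
    show Algebra.TensorProduct.map (incR S₀ S B) (AlgHom.id k A) (Comod.coact (k := k) (A := A) (algebraMap S₀ B s₀)) = _
    rw [show Comod.coact (k := k) (A := A) (algebraMap S₀ B s₀) = algebraMap S₀ B s₀ ⊗ₜ[k] (1 : A) from hB s₀]
    show ((1 : S) ⊗ₜ[S₀] algebraMap S₀ B s₀) ⊗ₜ[k] (1 : A) = (algebraMap S₀ S s₀ ⊗ₜ[S₀] (1 : B)) ⊗ₜ[k] (1 : A)
    rw [Algebra.TensorProduct.tmul_one_eq_one_tmul]

/-- The diagonal coaction, as an algebra map. -/
noncomputable def coactT : S ⊗[S₀] B →ₐ[k] (S ⊗[S₀] B) ⊗[k] A :=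
  (Algebra.TensorProduct.lift (coactL hS) (coactR hB) fun _ _ => Commute.all _ _).restrictScalars k

lemma coactT_incL (s : S) : coactT hS hB (incL S₀ S B (k := k) s) =
    (incL S₀ S B (k := k)).toLinearMap.rTensor A (Comod.coact (k := k) (A := A) s) := by
  show coactT hS hB (s ⊗ₜ[S₀] 1) = _
  simp only [coactT, AlgHom.restrictScalars_apply, Algebra.TensorProduct.lift_tmul, map_one, mul_one]
  show Algebra.TensorProduct.map (incL S₀ S B) (AlgHom.id k A) (Comod.coact (k := k) (A := A) s) = _
  rfl

lemma coactT_incR (b : B) : coactT hS hB (incR S₀ S B (k := k) b) =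
    (incR S₀ S B (k := k)).toLinearMap.rTensor A (Comod.coact (k := k) (A := A) b) := by
  show coactT hS hB (1 ⊗ₜ[S₀] b) = _
  simp only [coactT, AlgHom.restrictScalars_apply, Algebra.TensorProduct.lift_tmul, map_one, one_mul]
  show Algebra.TensorProduct.map (incR S₀ S B) (AlgHom.id k A) (Comod.coact (k := k) (A := A) b) = _
  rfl

lemma coassoc_natural {V W : Type u} [AddCommGroup V] [Module k V] [Comod k A V] [AddCommGroup W] [Module k W]
    (f : V →ₗ[k] W) (F : W →ₗ[k] W ⊗[k] A) (hF : ∀ v, F (f v) = f.rTensor A (Comod.coact (k := k) (A := A) v)) (v : V) :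
    TensorProduct.assoc k W A A (F.rTensor A (F (f v))) =
      (CoalgebraStruct.comul (R := k) (A := A)).lTensor W (F (f v)) := by
  have h := LinearMap.congr_fun (Comod.coassoc (k := k) (A := A) (V := V)) v
  simp only [LinearMap.comp_apply, LinearEquiv.coe_coe] at h
  have e : ∀ z : V ⊗[k] A, TensorProduct.assoc k W A A (F.rTensor A (f.rTensor A z)) =
      f.rTensor (A ⊗[k] A) (TensorProduct.assoc k V A A ((Comod.coact (k := k) (A := A)).rTensor A z)) := by
    intro z
    induction z with
    | zero => simp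
    | add p q hp hq => simp only [map_add, hp, hq]
    | tmul r a =>
      rw [LinearMap.rTensor_tmul, LinearMap.rTensor_tmul, LinearMap.rTensor_tmul, hF]
      generalize Comod.coact (k := k) (A := A) r = d
      induction d with
      | zero => simp
      | add p q hp hq => simp only [map_add, TensorProduct.add_tmul, hp, hq]
      | tmul s c => simp
  rw [hF, e, h]
  generalize Comod.coact (k := k) (A := A) v = z
  induction z with
  | zero => simp
  | add p q hp hq => simp only [map_add, hp, hq]
  | tmul r a => simp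

lemma counit_natural {V W : Type u} [AddCommGroup V] [Module k V] [Comod k A V] [AddCommGroup W] [Module k W]
    (f : V →ₗ[k] W) (F : W →ₗ[k] W ⊗[k] A) (hF : ∀ v, F (f v) = f.rTensor A (Comod.coact (k := k) (A := A) v)) (v : V) :
    (CoalgebraStruct.counit (R := k) (A := A)).lTensor W (F (f v)) = f v ⊗ₜ[k] (1 : k) := by
  have h := LinearMap.congr_fun (Comod.counit_comp (k := k) (A := A) (V := V)) v
  simp only [LinearMap.comp_apply, LinearMap.flip_apply, TensorProduct.mk_apply] at h
  rw [hF, ← LinearMap.comp_apply, LinearMap.lTensor_comp_rTensor, ← LinearMap.rTensor_comp_lTensor,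
    LinearMap.comp_apply, h, LinearMap.rTensor_tmul]

/-- The tensor product comodule. -/
@[reducible] noncomputable def tensorComod : Comod k A (S ⊗[S₀] B) where
  coact := (coactT hS hB).toLinearMap
  coassoc := by
    have key : (Algebra.TensorProduct.assoc k k k (S ⊗[S₀] B) A A).toAlgHom.comp
        ((Algebra.TensorProduct.map (coactT hS hB) (AlgHom.id k A)).comp (coactT hS hB)) =
        (Algebra.TensorProduct.map (AlgHom.id k (S ⊗[S₀] B)) (Bialgebra.comulAlgHom k A)).comp (coactT hS hB) :=
      algHom_ext (fun s => coassoc_natural (incL S₀ S B (k := k)).toLinearMap (coactT hS hB).toLinearMap (coactT_incL hS hB) s)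
        (fun b => coassoc_natural (incR S₀ S B (k := k)).toLinearMap (coactT hS hB).toLinearMap (coactT_incR hS hB) b)
    exact LinearMap.ext fun z => DFunLike.congr_fun key z
  counit_comp := by
    have key : (Algebra.TensorProduct.map (AlgHom.id k (S ⊗[S₀] B)) (Bialgebra.counitAlgHom k A)).comp (coactT hS hB) =
        Algebra.TensorProduct.includeLeft :=
      algHom_ext (fun s => counit_natural (incL S₀ S B (k := k)).toLinearMap (coactT hS hB).toLinearMap (coactT_incL hS hB) s)
        (fun b => counit_natural (incR S₀ S B (k := k)).toLinearMap (coactT hS hB).toLinearMap (coactT_incR hS hB) b)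
    exact LinearMap.ext fun z => DFunLike.congr_fun key z

lemma tensor_isCoactAlg : @GLin.IsCoactAlg k _ A _ _ (S ⊗[S₀] B) _ _ (tensorComod hS hB) :=
  @GLin.IsCoactAlg.mk k _ A _ _ (S ⊗[S₀] B) _ _ (tensorComod hS hB) (map_one (coactT hS hB)) (map_mul (coactT hS hB))

lemma isComodHom_incL : letI := tensorComod hS hB; Hoch.IsComodHom A (incL S₀ S B (k := k)).toLinearMap :=
  LinearMap.ext fun s => coactT_incL hS hB s

lemma isComodHom_incR : letI := tensorComod hS hB; Hoch.IsComodHom A (incR S₀ S B (k := k)).toLinearMap :=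
  LinearMap.ext fun b => coactT_incR hS hB b

/-- A map of algebras out of the tensor product is equivariant if it is so on both factors. -/
lemma isComodHom_of_factors {C : Type u} [CommRing C] [Algebra k C] [Comod k A C] [GLin.IsCoactAlg k A C]
    (μ : S ⊗[S₀] B →ₐ[k] C) (h1 : Hoch.IsComodHom A (μ.comp (incL S₀ S B)).toLinearMap)
    (h2 : Hoch.IsComodHom A (μ.comp (incR S₀ S B)).toLinearMap) :
    letI := tensorComod hS hB; Hoch.IsComodHom A μ.toLinearMap := by
  letI := tensorComod hS hB
  have key : (GLin.coactAlgHom k A C).comp μ = (Algebra.TensorProduct.map μ (AlgHom.id k A)).comp (coactT hS hB) := by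
    refine algHom_ext (fun s => ?_) (fun b => ?_)
    · show Comod.coact (k := k) (A := A) (μ (incL S₀ S B (k := k) s)) = μ.toLinearMap.rTensor A (coactT hS hB (incL S₀ S B (k := k) s))
      rw [coactT_incL, ← LinearMap.rTensor_comp_apply]
      exact comodHom_apply h1 s
    · show Comod.coact (k := k) (A := A) (μ (incR S₀ S B (k := k) b)) = μ.toLinearMap.rTensor A (coactT hS hB (incR S₀ S B (k := k) b))
      rw [coactT_incR, ← LinearMap.rTensor_comp_apply]
      exact comodHom_apply h2 b
  exact LinearMap.ext fun z => DFunLike.congr_fun key z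

end Groth.Agent.EtQuotH28
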