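import Mathlib.RingTheory.LocalRing.ResidueField.Ideal
import Mathlib.RingTheory.TensorProduct.Maps
import Mathlib.LinearAlgebra.Basis.VectorSpace
import Mathlib.RingTheory.Flat.FaithfullyFlat.Basic

/-!
# Primes of a tensor product over two given primes
-/

open TensorProduct

universe u

namespace Groth.Agent.EtQuotH28

theorem exists_prime_tensor {R S T : Type u} [CommRing R] [CommRing S] [CommRing T] [Algebra R S] [Algebra R T]
    (P : Ideal S) [P.IsPrime] (Q : Ideal T) [Q.IsPrime] (h : P.comap (algebraMap R S) = Q.comap (algebraMap R T)) :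
    ∃ N : Ideal (S ⊗[R] T), N.IsPrime ∧ N.comap (algebraMap S (S ⊗[R] T)) = P ∧
      N.comap (Algebra.TensorProduct.includeRight : T →ₐ[R] S ⊗[R] T).toRingHom = Q := by
  let p := P.under R
  haveI : P.LiesOver p := ⟨rfl⟩
  haveI : Q.LiesOver p := ⟨h⟩
  letI := Localization.AtPrime.algebraOfLiesOver p P
  letI := Localization.AtPrime.algebraOfLiesOver p Q
  let L := P.ResidueField ⊗[p.ResidueField] Q.ResidueField
  haveI : Nontrivial L := Algebra.TensorProduct.nontrivial_of_algebraMap_injective_of_flat_left p.ResidueField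
    P.ResidueField Q.ResidueField (algebraMap p.ResidueField Q.ResidueField).injective
  let f : S →ₐ[R] L := ((Algebra.TensorProduct.includeLeft : P.ResidueField →ₐ[p.ResidueField] L).restrictScalars R).comp
    (IsScalarTower.toAlgHom R S P.ResidueField)
  let g : T →ₐ[R] L := ((Algebra.TensorProduct.includeRight : Q.ResidueField →ₐ[p.ResidueField] L).restrictScalars R).comp
    (IsScalarTower.toAlgHom R T Q.ResidueField)
  let F : S ⊗[R] T →ₐ[R] L := Algebra.TensorProduct.lift f g fun _ _ => Commute.all _ _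
  obtain ⟨M, hM⟩ := Ideal.exists_maximal L
  haveI := hM
  refine ⟨M.comap F.toRingHom, inferInstance, ?_, ?_⟩
  · ext s
    rw [← Ideal.algebraMap_residueField_eq_zero (I := P)]
    show F (s ⊗ₜ[R] 1) ∈ M ↔ _
    rw [show F (s ⊗ₜ[R] 1) = (Algebra.TensorProduct.includeLeft : P.ResidueField →ₐ[p.ResidueField] L)
      (algebraMap S P.ResidueField s) by simp [F, f], ← Ideal.Quotient.eq_zero_iff_mem]
    show ((Ideal.Quotient.mk M).comp (Algebra.TensorProduct.includeLeft :
      P.ResidueField →ₐ[p.ResidueField] L).toRingHom) (algebraMap S P.ResidueField s) = 0 ↔ _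
    exact map_eq_zero _
  · ext s
    rw [← Ideal.algebraMap_residueField_eq_zero (I := Q)]
    show F (1 ⊗ₜ[R] s) ∈ M ↔ _
    rw [show F (1 ⊗ₜ[R] s) = (Algebra.TensorProduct.includeRight : Q.ResidueField →ₐ[p.ResidueField] L)
      (algebraMap T Q.ResidueField s) by simp [F, g], ← Ideal.Quotient.eq_zero_iff_mem]
    show ((Ideal.Quotient.mk M).comp (Algebra.TensorProduct.includeRight :
      Q.ResidueField →ₐ[p.ResidueField] L).toRingHom) (algebraMap T Q.ResidueField s) = 0 ↔ _
    exact map_eq_zero _

end Groth.Agent.EtQuotH28
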