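import Groth.Agent.Lib.EtQuotH28.Surj
import Groth.Agent.Lib.EtQuotH28.PrimeTensor
import Mathlib.RingTheory.Smooth.Flat
import Mathlib.RingTheory.Spectrum.Prime.Chevalley
import Mathlib.RingTheory.Unramified.LocalStructure
import Mathlib.RingTheory.Localization.BaseChange

/-!
# Strongly étale neighbourhoods
-/

open TensorProduct HopfRep WithConv Groth.Agent.Comodule

universe u

namespace Groth.Agent.EtQuotH28

set_option linter.unusedSectionVars false

section Alg

variable {S R S₀ R₀ : Type u} [CommRing S] [CommRing R] [CommRing S₀] [CommRing R₀] [Algebra S R] [Algebra S₀ S]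
  [Algebra R₀ R] [Algebra S₀ R₀] [Algebra S₀ R] [IsScalarTower S₀ S R] [IsScalarTower S₀ R₀ R]

/-- A map whose kernel and cokernel are killed by powers is a localisation. -/
lemma isLocalization_away {T : Type u} [CommRing T] (μ : T →+* R) (w : T)
    (hinj : ∀ z, μ z = 0 → ∃ n : ℕ, w ^ n * z = 0) (hsurj : ∀ r : R, ∃ (n : ℕ) (z : T), μ z = μ w ^ n * r) :
    @IsLocalization T _ (Submonoid.powers w) (Localization.Away (μ w)) _
      ((algebraMap R (Localization.Away (μ w))).comp μ).toAlgebra := by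
  letI : Algebra T (Localization.Away (μ w)) := ((algebraMap R (Localization.Away (μ w))).comp μ).toAlgebra
  have hw : IsUnit (algebraMap R (Localization.Away (μ w)) (μ w)) := IsLocalization.Away.algebraMap_isUnit _
  refine (isLocalization_iff _ _).2 ⟨fun y => ?_, fun z => ?_, fun {a b} hab => ?_⟩
  · obtain ⟨_, n, rfl⟩ := y
    show IsUnit (algebraMap R (Localization.Away (μ w)) (μ (w ^ n)))
    rw [map_pow, map_pow]
    exact hw.pow n
  · obtain ⟨r, ⟨_, n, rfl⟩, rfl⟩ := IsLocalization.exists_mk'_eq (Submonoid.powers (μ w)) z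
    obtain ⟨i, t, ht⟩ := hsurj r
    refine ⟨(t, ⟨w ^ (n + i), n + i, rfl⟩), ?_⟩
    show IsLocalization.mk' (Localization.Away (μ w)) r _ * algebraMap R _ (μ (w ^ (n + i))) = algebraMap R _ (μ t)
    rw [ht, map_pow, pow_add, map_mul, ← mul_assoc,
      IsLocalization.mk'_spec (Localization.Away (μ w)) r (⟨μ w ^ n, n, rfl⟩ : Submonoid.powers (μ w)), map_mul, mul_comm]
  · obtain ⟨⟨_, n, rfl⟩, hn⟩ := (IsLocalization.eq_iff_exists (Submonoid.powers (μ w)) (Localization.Away (μ w))).1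
      (show algebraMap R _ (μ a) = algebraMap R _ (μ b) from hab)
    obtain ⟨i, hi⟩ := hinj (w ^ n * a - w ^ n * b) (by
      rw [map_sub, map_mul, map_mul, map_pow, sub_eq_zero]; exact hn)
    refine ⟨⟨w ^ (i + n), i + n, rfl⟩, ?_⟩
    rw [mul_sub, sub_eq_zero, ← mul_assoc, ← mul_assoc, ← pow_add] at hi
    exact hi

end Alg

variable {k : Type u} [Field k] [IsAlgClosed k] [CharZero k] {A : Type u} [CommRing A] [HopfAlgebra k A]
  [Algebra.FiniteType k A] [IsDomain A]
  {S : Type u} [CommRing S] [IsReduced S] [Algebra k S] [Algebra.FiniteType k S] [Comod k A S] [GLin.IsCoactAlg k A S]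
  {R : Type u} [CommRing R] [IsReduced R] [Algebra k R] [Algebra.FiniteType k R] [Comod k A R] [GLin.IsCoactAlg k A R]
  [Algebra S R] [IsScalarTower k S R]
  {S₀ : Type u} [CommRing S₀] [Algebra k S₀] [Algebra S₀ S] [IsScalarTower k S₀ S]
  {R₀ : Type u} [CommRing R₀] [Algebra k R₀] [Algebra R₀ R] [IsScalarTower k R₀ R]
  [Algebra S₀ R₀] [Algebra S₀ R] [IsScalarTower S₀ S R] [IsScalarTower S₀ R₀ R]

set_option maxHeartbeats 1000000 in
theorem exists_strongly_etale (hG : IsLinearlyReductive k A)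
    (hequiv : ∀ s : S, Comod.coact (k := k) (A := A) (algebraMap S R s) =
      Algebra.TensorProduct.map (IsScalarTower.toAlgHom k S R) (AlgHom.id k A) (Comod.coact (k := k) (A := A) s))
    (hS₀i : Function.Injective (algebraMap S₀ S)) (hS₀ : (IsScalarTower.toAlgHom k S₀ S).range = GLin.invariants k A S)
    (hR₀i : Function.Injective (algebraMap R₀ R)) (hR₀ : (IsScalarTower.toAlgHom k R₀ R).range = GLin.invariants k A R)
    (x : R →ₐ[k] k) (het : Algebra.IsEtaleAt S (RingHom.ker x))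
    (hy : GLin.IsClosedOrbit k A (x.comp (IsScalarTower.toAlgHom k S R)))
    (hinj : ∀ g : A →ₐ[k] k, GLin.actPt k g (x.comp (IsScalarTower.toAlgHom k S R)) =
      x.comp (IsScalarTower.toAlgHom k S R) → GLin.actPt k g x = x) :
    ∃ (f : R₀) (g : S₀), x (algebraMap R₀ R (f * algebraMap S₀ R₀ g)) ≠ 0 ∧
      (∀ P : Ideal S, P.IsPrime → algebraMap S₀ S g ∉ P →
        ∃ Q : Ideal R, Q.IsPrime ∧ algebraMap R₀ R (f * algebraMap S₀ R₀ g) ∉ Q ∧ Q.comap (algebraMap S R) = P) ∧
      (∀ (Q : Ideal R) [Q.IsPrime], algebraMap R₀ R (f * algebraMap S₀ R₀ g) ∉ Q → Algebra.IsEtaleAt S Q) ∧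
      (∀ x' : R →ₐ[k] k, x' (algebraMap R₀ R (f * algebraMap S₀ R₀ g)) ≠ 0 → GLin.IsClosedOrbit k A x' →
        GLin.IsClosedOrbit k A (x'.comp (IsScalarTower.toAlgHom k S R))) ∧
      (∀ (q : Ideal R₀) [q.IsPrime], f * algebraMap S₀ R₀ g ∉ q → Algebra.IsEtaleAt S₀ q) ∧
      (∀ z : S ⊗[S₀] R₀, cmp S R S₀ R₀ z = 0 →
        ∃ n : ℕ, ((1 : S) ⊗ₜ[S₀] (f * algebraMap S₀ R₀ g)) ^ n * z = 0) ∧
      (∀ r : R, ∃ (n : ℕ) (z : S ⊗[S₀] R₀),
        cmp S R S₀ R₀ z = algebraMap R₀ R (f * algebraMap S₀ R₀ g) ^ n * r) := by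
  classical
  haveI : IsNoetherianRing S := Algebra.FiniteType.isNoetherianRing k S
  haveI : Algebra.FiniteType S R := Algebra.FiniteType.of_restrictScalars_finiteType k S R
  haveI : Algebra.FinitePresentation S R := Algebra.FinitePresentation.of_finiteType.1 inferInstance
  haveI hT0 : IsScalarTower k S₀ R := isScalarTower_base k S R S₀
  haveI hT : IsScalarTower k S₀ R₀ := isScalarTower_inv (R := R) hR₀i
  haveI := finiteType_invariants hG hR₀i hR₀
  haveI := finiteType_invariants hG hS₀i hS₀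
  haveI : IsNoetherianRing S₀ := Algebra.FiniteType.isNoetherianRing k S₀
  haveI : Algebra.FiniteType S₀ R₀ := Algebra.FiniteType.of_restrictScalars_finiteType k S₀ R₀
  haveI : Algebra.FinitePresentation S₀ R₀ := Algebra.FinitePresentation.of_finiteType.1 inferInstance
  obtain ⟨f₀, hf₀, hf₀et⟩ := Algebra.exists_etale_of_isEtaleAt (R := S) (RingHom.ker x)
  haveI := hf₀et
  haveI : Algebra.QuasiFiniteAt S (RingHom.ker x) := by
    have hdisj : Disjoint ((Submonoid.powers f₀ : Submonoid R) : Set R) (RingHom.ker x : Set R) := by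
      rw [Set.disjoint_left]
      rintro z ⟨i, rfl⟩ hz
      exact hf₀ ((RingHom.ker_isPrime x).mem_of_pow_mem i hz)
    let Rf := Localization.Away f₀
    let q' : Ideal Rf := (RingHom.ker x).map (algebraMap R Rf)
    haveI : q'.IsPrime := IsLocalization.isPrime_of_isPrime_disjoint (Submonoid.powers f₀) Rf _ inferInstance hdisj
    have hcomap : q'.comap (algebraMap R Rf) = RingHom.ker x :=
      IsLocalization.comap_map_of_isPrime_disjoint (Submonoid.powers f₀) Rf inferInstance hdisj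
    haveI : IsLocalization.AtPrime (Localization.AtPrime q') (RingHom.ker x) := by
      have := IsLocalization.isLocalization_isLocalization_atPrime_isLocalization (Submonoid.powers f₀)
        (Localization.AtPrime q') q'
      simpa only [hcomap] using this
    exact (Algebra.QuasiFinite.iff_of_algEquiv
      ((IsLocalization.algEquiv (RingHom.ker x).primeCompl (Localization.AtPrime (RingHom.ker x))
        (Localization.AtPrime q')).restrictScalars S)).2 inferInstance
  have hx : GLin.IsClosedOrbit k A x := isClosedOrbit_of_quasiFiniteAt hequiv hy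
  obtain ⟨c, hc, hcet⟩ := exists_etale_nbhd hequiv hx het
  have hthick := thickening_iso hequiv hy hinj hc hcet
  set q : Ideal R₀ := (RingHom.ker x).comap (algebraMap R₀ R) with hq
  have hqet : Algebra.IsEtaleAt S₀ q := isEtaleAt_quotient hG hequiv hS₀i hS₀ hR₀i hR₀ hx hy het hinj q hq
  obtain ⟨t₁, ht₁, hker⟩ := exists_kills_ker hG hequiv hS₀i hS₀ hR₀i hR₀ x hy hthick
  -- the cokernel
  obtain ⟨gen, hgen⟩ := (inferInstance : Algebra.FiniteType k R).out
  choose t₂ ht₂ z₂ hz₂ using exists_conductor (S := S) (S₀ := S₀) hG hequiv hR₀i hR₀ x fun N => (hthick N).1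
  let T₂ : R₀ := ∏ r ∈ gen, t₂ r
  have hT₂ : x (algebraMap R₀ R T₂) = 1 := by
    rw [map_prod, map_prod]; exact Finset.prod_eq_one fun r _ => ht₂ r
  obtain ⟨t₃, ht₃, ht₃et⟩ := Algebra.exists_etale_of_isEtaleAt (R := S₀) q
  let f := t₁ * T₂ * t₃
  have hfx : x (algebraMap R₀ R f) ≠ 0 := by
    rw [map_mul, map_mul, map_mul, map_mul, ht₁, hT₂, one_mul, one_mul]; exact ht₃
  have hfet : (↑(PrimeSpectrum.basicOpen f) : Set (PrimeSpectrum R₀)) ⊆ Algebra.etaleLocus S₀ R₀ :=
    fun P hP => Algebra.basicOpen_subset_etaleLocus_iff_etale.2 ht₃et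
      (show t₃ ∉ P.asIdeal from fun h => hP (Ideal.mul_mem_left _ _ h))
  haveI hBet : Algebra.Etale S₀ (Localization.Away f) := Algebra.basicOpen_subset_etaleLocus_iff_etale.1 hfet
  have hopen : IsOpen (Set.range (PrimeSpectrum.comap (algebraMap S₀ (Localization.Away f)))) :=
    (PrimeSpectrum.isOpenMap_comap_of_hasGoingDown_of_finitePresentation
      (R := S₀) (S := Localization.Away f)).isOpen_range
  haveI : q.IsPrime := inferInstance
  have hp : PrimeSpectrum.comap (algebraMap S₀ R₀) ⟨q, inferInstance⟩ ∈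
      Set.range (PrimeSpectrum.comap (algebraMap S₀ (Localization.Away f))) := by
    obtain ⟨Q, hQ⟩ : (⟨q, inferInstance⟩ : PrimeSpectrum R₀) ∈
        Set.range (PrimeSpectrum.comap (algebraMap R₀ (Localization.Away f))) := by
      rw [PrimeSpectrum.localization_away_comap_range _ f]; exact hfx
    exact ⟨Q, by rw [← hQ, IsScalarTower.algebraMap_eq S₀ R₀ (Localization.Away f)]; rfl⟩
  obtain ⟨_, ⟨_, ⟨g, rfl⟩, rfl⟩, hpg, hg⟩ := PrimeSpectrum.isBasis_basic_opens.exists_subset_of_mem_open hp hopen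
  have hgx : x (algebraMap R₀ R (algebraMap S₀ R₀ g)) ≠ 0 := hpg
  set e₀ : R₀ := f * algebraMap S₀ R₀ g with he₀
  refine ⟨f, g, ?_⟩
  rw [← he₀]
  let w : S ⊗[S₀] R₀ := (1 : S) ⊗ₜ[S₀] e₀
  have hμw : cmp S R S₀ R₀ w = algebraMap R₀ R e₀ := by rw [cmp_tmul, map_one, one_mul]
  have hker' : ∀ z, cmp S R S₀ R₀ z = 0 → ∃ n : ℕ, w ^ n * z = 0 := fun z hz => ⟨1, by
    rw [pow_one, show w = ((1 : S) ⊗ₜ[S₀] (T₂ * t₃ * algebraMap S₀ R₀ g)) * ((1 : S) ⊗ₜ[S₀] t₁) by
      rw [Algebra.TensorProduct.tmul_mul_tmul, one_mul]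
      show (1 : S) ⊗ₜ[S₀] e₀ = _
      congr 1
      rw [he₀]; ring,
      mul_assoc, hker z hz, mul_zero]⟩
  let C : Subalgebra k R := ((cmp S R S₀ R₀).restrictScalars k).range
  have hC : ∀ r₀ : R₀, algebraMap R₀ R r₀ ∈ C := fun r₀ => ⟨(1 : S) ⊗ₜ[S₀] r₀, by
    show cmp S R S₀ R₀ _ = _
    rw [cmp_tmul, map_one, one_mul]⟩
  have hsurj : ∀ r : R, ∃ n : ℕ, algebraMap R₀ R e₀ ^ n * r ∈ C := by
    intro r
    have hr : r ∈ Algebra.adjoin k (gen : Set R) := hgen ▸ Algebra.mem_top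
    induction hr using Algebra.adjoin_induction with
    | mem r hr =>
      refine ⟨1, ?_⟩
      rw [pow_one, he₀, map_mul, map_mul, map_mul, show T₂ = (∏ s ∈ gen.erase r, t₂ s) * t₂ r from
        (Finset.prod_erase_mul gen _ hr).symm, map_mul]
      rw [show ∀ a b c d e : R, a * (b * c) * d * e * r = (a * b * d * e) * (c * r) from fun a b c d e => by ring]
      exact mul_mem (mul_mem (mul_mem (mul_mem (hC _) (hC _)) (hC _)) (hC _)) ⟨z₂ r, hz₂ r⟩
    | algebraMap c => exact ⟨0, by rw [pow_zero, one_mul]; exact Subalgebra.algebraMap_mem _ c⟩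
    | add a b _ _ ha hb =>
      obtain ⟨n, hn⟩ := ha
      obtain ⟨m, hm⟩ := hb
      refine ⟨n + m, ?_⟩
      rw [show ∀ e : R, e ^ (n + m) * (a + b) = e ^ m * (e ^ n * a) + e ^ n * (e ^ m * b) from fun e => by ring]
      exact add_mem (mul_mem (pow_mem (hC _) _) hn) (mul_mem (pow_mem (hC _) _) hm)
    | mul a b _ _ ha hb =>
      obtain ⟨n, hn⟩ := ha
      obtain ⟨m, hm⟩ := hb
      exact ⟨n + m, by rw [pow_add, mul_mul_mul_comm]; exact mul_mem hn hm⟩
  have hsurj' : ∀ r : R, ∃ (n : ℕ) (z : S ⊗[S₀] R₀), cmp S R S₀ R₀ z = algebraMap R₀ R e₀ ^ n * r := fun r => by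
    obtain ⟨n, z, hz⟩ := hsurj r
    exact ⟨n, z, hz⟩
  -- the localisation
  have hlocT := isLocalization_away (cmp S R S₀ R₀).toRingHom w hker' (fun r => by
    show ∃ (n : ℕ) (z : S ⊗[S₀] R₀), cmp S R S₀ R₀ z = cmp S R S₀ R₀ w ^ n * r
    rw [hμw]; exact hsurj' r)
  let L := Localization.Away ((cmp S R S₀ R₀).toRingHom w)
  letI algTL : Algebra (S ⊗[S₀] R₀) L := ((algebraMap R L).comp (cmp S R S₀ R₀).toRingHom).toAlgebra
  haveI : IsLocalization.Away w L := hlocT
  haveI : IsScalarTower S (S ⊗[S₀] R₀) L := IsScalarTower.of_algebraMap_eq fun s => by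
    show algebraMap S L s = algebraMap R L (cmp S R S₀ R₀ (s ⊗ₜ[S₀] 1))
    rw [cmp_tmul, map_one, mul_one, ← IsScalarTower.algebraMap_apply]
  haveI : IsScalarTower k (S ⊗[S₀] R₀) L := IsScalarTower.of_algebraMap_eq fun c => by
    show algebraMap k L c = algebraMap R L (((cmp S R S₀ R₀).restrictScalars k) (algebraMap k _ c))
    rw [AlgHom.commutes, ← IsScalarTower.algebraMap_apply]
  have hmemwL : IsUnit (algebraMap R L (algebraMap R₀ R e₀)) := by
    rw [← hμw]
    exact IsLocalization.Away.algebraMap_isUnit _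
  refine ⟨?_, ?_, ?_, ?_, ?_, hker', hsurj'⟩
  · rw [he₀, map_mul, map_mul]; exact mul_ne_zero hfx hgx
  · intro P hP hgP
    have hPg : PrimeSpectrum.comap (algebraMap S₀ S) ⟨P, hP⟩ ∈ PrimeSpectrum.basicOpen g := hgP
    obtain ⟨QB, hQB⟩ := hg hPg
    let q' := QB.asIdeal.comap (algebraMap R₀ (Localization.Away f))
    have hcm : P.comap (algebraMap S₀ S) = q'.comap (algebraMap S₀ R₀) := by
      rw [Ideal.comap_comap, ← IsScalarTower.algebraMap_eq]
      exact (congrArg PrimeSpectrum.asIdeal hQB).symm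
    obtain ⟨N, hN, hNP, hNq⟩ := exists_prime_tensor P q' hcm
    have hwN : w ∉ N := by
      intro h
      have h' : e₀ ∈ q' := by rw [← hNq]; exact h
      rcases (inferInstance : q'.IsPrime).mem_or_mem h' with h1 | h1
      · exact QB.isPrime.ne_top (Ideal.eq_top_of_isUnit_mem _ h1 (IsLocalization.Away.algebraMap_isUnit f))
      · exact hgP (show g ∈ P.comap (algebraMap S₀ S) by rw [hcm]; exact h1)
    have hdisj : Disjoint ((Submonoid.powers w : Submonoid (S ⊗[S₀] R₀)) : Set (S ⊗[S₀] R₀)) (N : Set (S ⊗[S₀] R₀)) := by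
      rw [Set.disjoint_left]
      rintro z ⟨i, rfl⟩ hz
      exact hwN (hN.mem_of_pow_mem i hz)
    have hprime : (N.map (algebraMap (S ⊗[S₀] R₀) L)).IsPrime :=
      IsLocalization.isPrime_of_isPrime_disjoint (Submonoid.powers w) L N hN hdisj
    refine ⟨(N.map (algebraMap (S ⊗[S₀] R₀) L)).comap (algebraMap R L), inferInstance,
      fun h => hprime.ne_top (Ideal.eq_top_of_isUnit_mem _ h hmemwL), ?_⟩
    rw [Ideal.comap_comap, ← IsScalarTower.algebraMap_eq, IsScalarTower.algebraMap_eq S (S ⊗[S₀] R₀) L,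
      ← Ideal.comap_comap]
    refine Eq.trans (congrArg _ ?_) hNP
    exact IsLocalization.comap_map_of_isPrime_disjoint (Submonoid.powers w) L hN hdisj
  · intro Q hQ hQe
    haveI : Algebra.Etale S₀ (Localization.Away e₀) := Algebra.basicOpen_subset_etaleLocus_iff_etale.1
      fun P hP => hfet (show f ∉ P.asIdeal from fun h => hP (Ideal.mul_mem_right _ _ h))
    let eT := IsLocalization.Away.tensorProductEquivTMulRight S₀ S e₀ (Localization.Away e₀)
    let eL : Localization.Away ((1 : S) ⊗ₜ[S₀] e₀) ≃ₐ[S] L :=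
      (IsLocalization.algEquiv (Submonoid.powers w) (Localization.Away w) L).restrictScalars S
    haveI : Algebra.Etale S L := Algebra.Etale.of_equiv (eT.trans eL)
    exact (Algebra.basicOpen_subset_etaleLocus_iff_etale (R := S) (A := R)
      (f := (cmp S R S₀ R₀).toRingHom w)).2 inferInstance
      (show (⟨Q, hQ⟩ : PrimeSpectrum R) ∈ PrimeSpectrum.basicOpen ((cmp S R S₀ R₀).toRingHom w) from
        fun h => hQe (hμw ▸ h))
  · intro x' hx'e hx'
    rw [← OrbitH28.closed_iff_isClosedOrbit] at hx' ⊢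
    intro z' hz'
    set y' := x'.comp (IsScalarTower.toAlgHom k S R) with hy'
    have hmemS : ∀ r : S₀, algebraMap S₀ S r ∈ GLin.invariants k A S := fun r => hS₀ ▸ ⟨r, rfl⟩
    letI : Algebra S₀ k := (z'.toRingHom.comp (algebraMap S₀ S)).toAlgebra
    haveI : IsScalarTower k S₀ k := IsScalarTower.of_algebraMap_eq fun c => by
      show c = z' (algebraMap S₀ S (algebraMap k S₀ c))
      rw [← IsScalarTower.algebraMap_apply, AlgHom.commutes]; rfl
    let zl : S →ₐ[S₀] k := { z'.toRingHom with commutes' := fun s₀ => rfl }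
    let xl : R₀ →ₐ[S₀] k := { x'.toRingHom.comp (algebraMap R₀ R) with
      commutes' := fun s₀ => by
        show x' (algebraMap R₀ R (algebraMap S₀ R₀ s₀)) = z' (algebraMap S₀ S s₀)
        rw [← IsScalarTower.algebraMap_apply, IsScalarTower.algebraMap_apply S₀ S R,
          eq_of_inOrbitClosure hz' (hmemS s₀)]
        rfl }
    let ψ : S ⊗[S₀] R₀ →ₐ[k] k :=
      (Algebra.TensorProduct.lift zl xl fun _ _ => Commute.all _ _).restrictScalars k
    have hψw : IsUnit (ψ w) := by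
      show IsUnit (Algebra.TensorProduct.lift zl xl (fun _ _ => Commute.all _ _) ((1 : S) ⊗ₜ[S₀] e₀))
      rw [Algebra.TensorProduct.lift_tmul, map_one, one_mul]
      exact isUnit_iff_ne_zero.2 hx'e
    let x'' : R →ₐ[k] k := (IsLocalization.liftAlgHom (M := Submonoid.powers w) (S := L) (f := ψ) (by
      rintro ⟨_, n, rfl⟩; rw [map_pow]; exact hψw.pow n)).comp (IsScalarTower.toAlgHom k R L)
    have hx''μ : ∀ z, x'' (cmp S R S₀ R₀ z) = ψ z := fun z => by
      refine Eq.trans ?_ (IsLocalization.lift_eq (M := Submonoid.powers w) (S := L) (g := ψ.toRingHom) (by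
        rintro ⟨_, n, rfl⟩
        show IsUnit (ψ (w ^ n))
        rw [map_pow]; exact hψw.pow n) z)
      rfl
    have h1 : x''.comp (IsScalarTower.toAlgHom k S R) = z' := AlgHom.ext fun s => by
      show x'' (algebraMap S R s) = z' s
      rw [show algebraMap S R s = cmp S R S₀ R₀ (s ⊗ₜ[S₀] (1 : R₀)) by rw [cmp_tmul, map_one, mul_one], hx''μ]
      show Algebra.TensorProduct.lift zl xl (fun _ _ => Commute.all _ _) (s ⊗ₜ[S₀] (1 : R₀)) = _
      rw [Algebra.TensorProduct.lift_tmul, map_one, mul_one]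
      rfl
    have h2 : ∀ f' ∈ GLin.invariants k A R, x'' f' = x' f' := by
      intro f' hf'
      obtain ⟨r₀, rfl⟩ : f' ∈ (IsScalarTower.toAlgHom k R₀ R).range := by rw [hR₀]; exact hf'
      show x'' (algebraMap R₀ R r₀) = x' (algebraMap R₀ R r₀)
      rw [show algebraMap R₀ R r₀ = cmp S R S₀ R₀ ((1 : S) ⊗ₜ[S₀] r₀) by rw [cmp_tmul, map_one, one_mul], hx''μ]
      show Algebra.TensorProduct.lift zl xl (fun _ _ => Commute.all _ _) ((1 : S) ⊗ₜ[S₀] r₀) = _
      rw [Algebra.TensorProduct.lift_tmul, map_one, one_mul, cmp_tmul, map_one, one_mul]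
      rfl
    obtain ⟨v, hv₁, hv₂⟩ := exists_inOrbitClosure_both hG h2
    obtain ⟨g', hg'⟩ := hx' v hv₂
    have hback := OrbitH28.inOrbitClosure_mv g'⁻¹ (OrbitH28.mv g' x')
    rw [OrbitH28.mv_inv_mv, hg'] at hback
    have hc' := inOrbitClosure_comp hequiv (OrbitH28.inOrbitClosure_trans hv₁ hback)
    rw [h1] at hc'
    exact OrbitH28.exists_mv_eq_of_mutual hz' hc'
  · intro q' hq' he
    exact hfet (show (⟨q', hq'⟩ : PrimeSpectrum R₀) ∈ PrimeSpectrum.basicOpen f from
      fun h => he (Ideal.mul_mem_right _ _ h))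

end Groth.Agent.EtQuotH28
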