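import Groth.Agent.Lib.OrbitFlatH28.Basic
import Groth.Agent.Lib.OrbitH28.Dim
import Groth.Agent.Lib.FinGenH28.Basic
import Mathlib.RingTheory.Etale.Locus
import Mathlib.RingTheory.RingHom.Etale

/-!
# Etale neighbourhoods of closed orbits
-/

open TensorProduct HopfRep WithConv Groth.Agent.Comodule

universe u

namespace Groth.Agent.EtQuotH28

section transl

variable {k : Type u} [Field k] [IsAlgClosed k] {A : Type u} [CommRing A] [HopfAlgebra k A]
  {R : Type u} [CommRing R] [Algebra k R] [Algebra.FiniteType k R] [Comod k A R] [GLin.IsCoactAlg k A R]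

lemma ext_points_reduced [IsReduced R] {y z : R} (h : ∀ w : R →ₐ[k] k, w y = w z) : y = z := by
  haveI : IsJacobsonRing R := isJacobsonRing_of_finiteType (A := k)
  rw [← sub_eq_zero]
  have hJ : (⊥ : Ideal R).jacobson = ⊥ := IsJacobsonRing.out inferInstance (Ideal.isRadical_bot_iff.2 inferInstance)
  have : y - z ∈ (⊥ : Ideal R).jacobson := by
    rw [Ideal.jacobson, Ideal.mem_sInf]
    rintro M ⟨-, hM⟩
    haveI := hM
    obtain ⟨g, hg⟩ := FreeOrbH28.exists_point_of_isMaximal (k := k) M
    rw [← hg, RingHom.mem_ker, map_sub, h g, sub_self]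
  rwa [hJ] at this

lemma point_act (g : WithConv (A →ₐ[k] k)) (w : R →ₐ[k] k) (f : R) :
    w (Comod.act k A R g.ofConv f) = OrbitH28.mv g w f := by
  rw [OrbitH28.act_apply, OrbitH28.mv_apply]

variable [IsReduced R]

/-- The automorphism given by a rational point. -/
noncomputable def actEquiv (g : WithConv (A →ₐ[k] k)) : R ≃+* R where
  toFun := Comod.act k A R g.ofConv
  invFun := Comod.act k A R g⁻¹.ofConv
  left_inv f := ext_points_reduced (k := k) fun w => by
    rw [point_act, point_act, OrbitH28.mv_mv, inv_mul_cancel, OrbitH28.mv_one]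
  right_inv f := ext_points_reduced (k := k) fun w => by
    rw [point_act, point_act, OrbitH28.mv_mv, mul_inv_cancel, OrbitH28.mv_one]
  map_mul' f f' := ext_points_reduced (k := k) fun w => by
    rw [point_act, map_mul, map_mul, point_act, point_act]
  map_add' f f' := map_add _ f f'

lemma point_actEquiv (g : WithConv (A →ₐ[k] k)) (w : R →ₐ[k] k) (f : R) :
    w (actEquiv g f) = OrbitH28.mv g w f := point_act g w f

end transl

variable {k : Type u} [Field k] [IsAlgClosed k] {A : Type u} [CommRing A] [HopfAlgebra k A]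
  {S : Type u} [CommRing S] [Algebra k S] [Algebra.FiniteType k S] [Comod k A S] [GLin.IsCoactAlg k A S]
  {R : Type u} [CommRing R] [Algebra k R] [Algebra.FiniteType k R] [Comod k A R] [GLin.IsCoactAlg k A R]
  [Algebra S R] [IsScalarTower k S R]
  (hequiv : ∀ s : S, Comod.coact (k := k) (A := A) (algebraMap S R s) =
      Algebra.TensorProduct.map (IsScalarTower.toAlgHom k S R) (AlgHom.id k A) (Comod.coact (k := k) (A := A) s))

include hequiv

lemma orbitHom_comp (w : R →ₐ[k] k) :
    GLin.orbitHom k A (w.comp (IsScalarTower.toAlgHom k S R)) =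
      (GLin.orbitHom k A w).comp (IsScalarTower.toAlgHom k S R) := by
  refine AlgHom.ext fun s => ?_
  rw [AlgHom.comp_apply, orbitHom_apply, orbitHom_apply,
    show IsScalarTower.toAlgHom k S R s = algebraMap S R s from rfl, hequiv]
  generalize Comod.coact (k := k) (A := A) s = t
  induction t with
  | zero => simp
  | tmul p a => simp
  | add p q hp hq => simp only [map_add, hp, hq]

lemma mv_comp (g : WithConv (A →ₐ[k] k)) (w : R →ₐ[k] k) :
    OrbitH28.mv g (w.comp (IsScalarTower.toAlgHom k S R)) =
      (OrbitH28.mv g w).comp (IsScalarTower.toAlgHom k S R) := by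
  refine AlgHom.ext fun s => ?_
  rw [OrbitH28.mv_apply, orbitHom_comp hequiv]
  rfl

lemma isComodHom_algebraMap : Hoch.IsComodHom A (IsScalarTower.toAlgHom k S R).toLinearMap := by
  refine LinearMap.ext fun s => ?_
  show Comod.coact (k := k) (A := A) (algebraMap S R s) = _
  rw [hequiv, LinearMap.comp_apply]
  generalize Comod.coact (k := k) (A := A) s = t
  induction t with
  | zero => simp
  | tmul p a => simp
  | add p q hp hq => simp only [map_add, hp, hq]

variable [Algebra.FiniteType k A] [IsReduced R] [IsReduced S]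

lemma algebraMap_actEquiv (g : WithConv (A →ₐ[k] k)) (s : S) :
    algebraMap S R (actEquiv (k := k) g s) = actEquiv (k := k) g (algebraMap S R s) :=
  ext_points_reduced (k := k) fun w => by
    show (w.comp (IsScalarTower.toAlgHom k S R)) (actEquiv g s) = w (actEquiv g (algebraMap S R s))
    rw [point_actEquiv, point_actEquiv, mv_comp hequiv]
    rfl

/-- An element congruent to one modulo a closed orbit, outside which the map may fail to be étale. -/
theorem exists_etale_nbhd {x : R →ₐ[k] k} (hx : GLin.IsClosedOrbit k A x)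
    (het : Algebra.IsEtaleAt S (RingHom.ker x)) :
    ∃ c : R, c - 1 ∈ RingHom.ker (GLin.orbitHom k A x) ∧ Algebra.Etale S (Localization.Away c) := by
  haveI : IsNoetherianRing S := Algebra.FiniteType.isNoetherianRing k S
  haveI : Algebra.FiniteType S R := Algebra.FiniteType.of_restrictScalars_finiteType k S R
  haveI : Algebra.FinitePresentation S R := Algebra.FinitePresentation.of_finiteType.1 inferInstance
  obtain ⟨f, hf, hfet⟩ := Algebra.exists_etale_of_isEtaleAt (R := S) (RingHom.ker x)
  let F : Set R := Set.range fun g : WithConv (A →ₐ[k] k) => actEquiv g f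
  have hF : ∀ g : WithConv (A →ₐ[k] k),
      (↑(PrimeSpectrum.basicOpen (actEquiv g f)) : Set (PrimeSpectrum R)) ⊆ Algebra.etaleLocus S R := by
    intro g
    rw [Algebra.basicOpen_subset_etaleLocus_iff_etale, ← RingHom.etale_algebraMap]
    have h0 : ((algebraMap R (Localization.Away f)).comp (algebraMap S R)).Etale :=
      RingHom.etale_algebraMap.2 hfet
    have hmap : (Submonoid.powers f).map ((actEquiv g : R ≃+* R) : R ≃* R).toMonoidHom = Submonoid.powers (actEquiv g f) := by
      rw [Submonoid.map_powers]
      rfl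
    let eL := IsLocalization.ringEquivOfRingEquiv (Localization.Away f) (Localization.Away (actEquiv g f))
      (actEquiv g) hmap
    have hcomp : algebraMap S (Localization.Away (actEquiv g f)) =
        (eL.toRingHom.comp ((algebraMap R (Localization.Away f)).comp (algebraMap S R))).comp
          (actEquiv g).symm.toRingHom := by
      refine RingHom.ext fun s => ?_
      refine Eq.trans ?_ (IsLocalization.ringEquivOfRingEquiv_eq (S := Localization.Away f)
        (Q := Localization.Away (actEquiv g f)) hmap (algebraMap S R ((actEquiv g).symm s))).symm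
      show algebraMap S (Localization.Away (actEquiv g f)) s =
        algebraMap R (Localization.Away (actEquiv g f)) (actEquiv g (algebraMap S R ((actEquiv g).symm s)))
      rw [← algebraMap_actEquiv hequiv, RingEquiv.apply_symm_apply, ← IsScalarTower.algebraMap_apply]
    rw [hcomp]
    exact RingHom.Etale.stableUnderComposition _ _
      (RingHom.Etale.of_bijective (actEquiv g).symm.bijective)
      (RingHom.Etale.stableUnderComposition _ _ h0 (RingHom.Etale.of_bijective eL.bijective))
  have htop : RingHom.ker (GLin.orbitHom k A x) ⊔ Ideal.span F = ⊤ := by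
    by_contra hne
    obtain ⟨M, hM, hle⟩ := Ideal.exists_le_maximal _ hne
    haveI := hM
    obtain ⟨w, hw⟩ := FreeOrbH28.exists_point_of_isMaximal (k := k) M
    obtain ⟨g, hg⟩ := ((OrbitH28.closed_iff_isClosedOrbit x).2 hx) w
      (fun r hr => hw.symm ▸ hle (Ideal.mem_sup_left hr))
    have hmem : actEquiv (k := k) g⁻¹ f ∈ RingHom.ker w :=
      hw.symm ▸ hle (Ideal.mem_sup_right (Ideal.subset_span ⟨g⁻¹, rfl⟩))
    rw [RingHom.mem_ker, point_actEquiv, ← hg, OrbitH28.mv_inv_mv] at hmem
    exact hf hmem
  obtain ⟨i, hi, c, hc, hic⟩ := Submodule.mem_sup.1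
    (htop ▸ Submodule.mem_top : (1 : R) ∈ RingHom.ker (GLin.orbitHom k A x) ⊔ Ideal.span F)
  refine ⟨c, by rw [show c - 1 = -i by linear_combination hic]; exact neg_mem hi, ?_⟩
  rw [← Algebra.basicOpen_subset_etaleLocus_iff_etale]
  intro P hP
  have hnot : ¬ F ⊆ P.asIdeal := fun h => hP (Ideal.span_le.2 h hc)
  obtain ⟨_, ⟨g, rfl⟩, hg⟩ := Set.not_subset.1 hnot
  exact hF g hg

end Groth.Agent.EtQuotH28
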