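import Groth.Agent.Lib.EtQuotH28.Nbhd
import Groth.Agent.Lib.VarDim.Alg
import Mathlib.RingTheory.QuasiFinite.Basic

/-!
# Closed orbits pull back along maps quasi-finite at a point
-/

open TensorProduct HopfRep WithConv Groth.Agent.Comodule

universe u

namespace Groth.Agent.EtQuotH28

set_option linter.unusedSectionVars false

variable {k : Type u} [Field k] [IsAlgClosed k] {A : Type u} [CommRing A] [IsDomain A] [HopfAlgebra k A]
  [Algebra.FiniteType k A]
  {S : Type u} [CommRing S] [Algebra k S] [Algebra.FiniteType k S] [Comod k A S] [GLin.IsCoactAlg k A S]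
  {R : Type u} [CommRing R] [Algebra k R] [Algebra.FiniteType k R] [Comod k A R] [GLin.IsCoactAlg k A R]
  [Algebra S R] [IsScalarTower k S R]
  (hequiv : ∀ s : S, Comod.coact (k := k) (A := A) (algebraMap S R s) =
      Algebra.TensorProduct.map (IsScalarTower.toAlgHom k S R) (AlgHom.id k A) (Comod.coact (k := k) (A := A) s))

include hequiv

lemma ker_orbitHom_comp (w : R →ₐ[k] k) :
    RingHom.ker (GLin.orbitHom k A (w.comp (IsScalarTower.toAlgHom k S R))) =
      (RingHom.ker (GLin.orbitHom k A w)).comap (algebraMap S R) := by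
  rw [orbitHom_comp hequiv]
  rfl

lemma inOrbitClosure_comp {x z : R →ₐ[k] k} (h : GLin.InOrbitClosure k A x z) :
    GLin.InOrbitClosure k A (x.comp (IsScalarTower.toAlgHom k S R)) (z.comp (IsScalarTower.toAlgHom k S R)) := by
  intro f hf
  rw [ker_orbitHom_comp hequiv] at hf
  exact h hf

lemma ringKrullDim_quotient_le_of_quasiFiniteAt {P : Ideal R} [P.IsPrime]
    {x : R →ₐ[k] k} (hPx : P ≤ RingHom.ker x) [Algebra.QuasiFiniteAt S (RingHom.ker x)] :
    ringKrullDim (R ⧸ P) ≤ ringKrullDim (S ⧸ P.comap (algebraMap S R)) := by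
  haveI : (RingHom.ker x).IsMaximal := RingHom.ker_isMaximal_of_surjective _ fun c => ⟨algebraMap k R c, x.commutes c⟩
  haveI : Algebra.FiniteType k (R ⧸ P) :=
    Algebra.FiniteType.of_surjective (Ideal.Quotient.mkₐ k _) Ideal.Quotient.mk_surjective
  let M : PrimeSpectrum (R ⧸ P) := ⟨(RingHom.ker x).map (Ideal.Quotient.mk P),
    Ideal.map_isPrime_of_surjective Ideal.Quotient.mk_surjective (by rw [Ideal.mk_ker]; exact hPx)⟩
  have hMc : M.asIdeal.comap (Ideal.Quotient.mk P) = RingHom.ker x := by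
    show ((RingHom.ker x).map (Ideal.Quotient.mk P)).comap (Ideal.Quotient.mk P) = _
    rw [Ideal.comap_map_of_surjective' _ Ideal.Quotient.mk_surjective, Ideal.mk_ker, sup_eq_left.2 hPx]
  have hco : Order.coheight M = 0 := by
    rw [Order.coheight_eq_zero]
    intro Q hQ
    have h := Ideal.comap_mono (f := Ideal.Quotient.mk P) (show M.asIdeal ≤ Q.asIdeal from hQ)
    rw [hMc] at h
    have he := Ideal.IsMaximal.eq_of_le ‹_› (Q.isPrime.comap (Ideal.Quotient.mk P)).ne_top h
    show Q.asIdeal ≤ M.asIdeal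
    rw [← Ideal.map_comap_of_surjective _ Ideal.Quotient.mk_surjective Q.asIdeal, ← he]
  have hdim := VarDim.height_add_coheight k (R ⧸ P) M
  rw [hco, add_zero, Order.height_eq_krullDim_Iic] at hdim
  rw [← hdim]
  let f : Set.Iic M → PrimeSpectrum (S ⧸ P.comap (algebraMap S R)) := fun Q =>
    PrimeSpectrum.comap (Ideal.quotientMap P (algebraMap S R) le_rfl) Q.1
  refine Order.krullDim_le_of_strictMono f fun Q Q' hQQ' => lt_of_le_of_ne (Ideal.comap_mono hQQ'.le) fun he => ?_
  have h1 := congrArg (fun p : PrimeSpectrum _ => p.asIdeal.comap (Ideal.Quotient.mk (P.comap (algebraMap S R)))) he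
  simp only [f, PrimeSpectrum.comap_asIdeal, Ideal.comap_comap, Ideal.quotientMap_comp_mk] at h1
  have hle : Q'.1.asIdeal.comap (Ideal.Quotient.mk P) ≤ RingHom.ker x := hMc ▸ Ideal.comap_mono (Set.mem_Iic.1 Q'.2)
  haveI : Algebra.QuasiFiniteAt S (Q'.1.asIdeal.comap (Ideal.Quotient.mk P)) := Algebra.QuasiFiniteAt.of_le hle
  have h2 := Algebra.QuasiFiniteAt.eq_of_le_of_under_eq (R := S) (P := Q.1.asIdeal.comap (Ideal.Quotient.mk P))
    (Q := Q'.1.asIdeal.comap (Ideal.Quotient.mk P)) (Ideal.comap_mono hQQ'.le) (by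
      simpa [Ideal.under, Ideal.comap_comap] using h1)
  exact hQQ'.ne (Subtype.ext (PrimeSpectrum.ext (Ideal.comap_injective_of_surjective _ Ideal.Quotient.mk_surjective h2)))

/-- A point, quasi-finite over a point with closed orbit, has closed orbit. -/
theorem isClosedOrbit_of_quasiFiniteAt {x : R →ₐ[k] k} [Algebra.QuasiFiniteAt S (RingHom.ker x)]
    (hy : GLin.IsClosedOrbit k A (x.comp (IsScalarTower.toAlgHom k S R))) : GLin.IsClosedOrbit k A x := by
  rw [← OrbitH28.closed_iff_isClosedOrbit] at hy ⊢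
  intro z hz
  refine OrbitH28.exists_mv_eq_of_dim_le hz ?_
  obtain ⟨g, hg⟩ := hy _ (inOrbitClosure_comp hequiv hz)
  have hback : GLin.InOrbitClosure k A (z.comp (IsScalarTower.toAlgHom k S R))
      (x.comp (IsScalarTower.toAlgHom k S R)) := by
    have := OrbitH28.inOrbitClosure_mv g⁻¹ (OrbitH28.mv g (x.comp (IsScalarTower.toAlgHom k S R)))
    rwa [OrbitH28.mv_inv_mv, hg] at this
  haveI hPz : (RingHom.ker (GLin.orbitHom k A z)).IsPrime := RingHom.ker_isPrime _
  haveI hPx : (RingHom.ker (GLin.orbitHom k A x)).IsPrime := RingHom.ker_isPrime _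
  have heq : (RingHom.ker (GLin.orbitHom k A x)).comap (algebraMap S R) =
      (RingHom.ker (GLin.orbitHom k A z)).comap (algebraMap S R) := by
    rw [← ker_orbitHom_comp hequiv, ← ker_orbitHom_comp hequiv]
    refine le_antisymm ?_ ?_
    · exact (OrbitH28.ker_le_radical (inOrbitClosure_comp hequiv hz)).trans
        (RingHom.ker_isPrime _).radical.le
    · exact (OrbitH28.ker_le_radical hback).trans (RingHom.ker_isPrime _).radical.le
  refine (ringKrullDim_quotient_le_of_quasiFiniteAt hequiv (inOrbitClosure_self x)).trans ?_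
  rw [heq]
  haveI : Algebra.FiniteType k (R ⧸ RingHom.ker (GLin.orbitHom k A z)) :=
    Algebra.FiniteType.of_surjective (Ideal.Quotient.mkₐ k _) Ideal.Quotient.mk_surjective
  haveI : Algebra.FiniteType k (S ⧸ (RingHom.ker (GLin.orbitHom k A z)).comap (algebraMap S R)) :=
    Algebra.FiniteType.of_surjective (Ideal.Quotient.mkₐ k _) Ideal.Quotient.mk_surjective
  rw [VarDim.ringKrullDim_eq_tdeg k, VarDim.ringKrullDim_eq_tdeg k]
  have hinj := trdeg_le_of_injective
    (Ideal.quotientMapₐ (R₁ := k) (RingHom.ker (GLin.orbitHom k A z)) (IsScalarTower.toAlgHom k S R) le_rfl)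
    Ideal.quotientMap_injective
  rw [VarDim.trdeg_eq_tdeg, VarDim.trdeg_eq_tdeg] at hinj
  exact_mod_cast hinj

end Groth.Agent.EtQuotH28
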