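import Groth.Agent.Lib.EtQuotH28.Main
import Groth.Agent.Lib.EtQuotH28.Tensor
import Groth.Agent.Lib.EtQuotH28.ClosedOrbit
import Groth.Agent.Lib.OrbitH28.Stab

/-!
# The comparison map to the fibre product over the quotients is injective near a closed orbit
-/

open TensorProduct HopfRep WithConv Groth.Agent.Comodule

universe u

namespace Groth.Agent.EtQuotH28

set_option linter.unusedSectionVars false

variable {k : Type u} [Field k] [IsAlgClosed k] [CharZero k] {A : Type u} [CommRing A] [HopfAlgebra k A]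
  [Algebra.FiniteType k A] [IsDomain A]
  {S : Type u} [CommRing S] [Algebra k S] [Algebra.FiniteType k S] [Comod k A S] [GLin.IsCoactAlg k A S]
  {R : Type u} [CommRing R] [Algebra k R] [Algebra.FiniteType k R] [Comod k A R] [GLin.IsCoactAlg k A R]
  [Algebra S R] [IsScalarTower k S R]
  {S₀ : Type u} [CommRing S₀] [Algebra k S₀] [Algebra S₀ S] [IsScalarTower k S₀ S]
  {R₀ : Type u} [CommRing R₀] [Algebra k R₀] [Algebra R₀ R] [IsScalarTower k R₀ R]
  [Algebra S₀ R₀] [Algebra S₀ R] [IsScalarTower S₀ S R] [IsScalarTower S₀ R₀ R]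

variable (S R S₀ R₀) in
/-- The comparison map. -/
noncomputable abbrev cmp : S ⊗[S₀] R₀ →ₐ[S₀] R :=
  Algebra.TensorProduct.productMap (IsScalarTower.toAlgHom S₀ S R) (IsScalarTower.toAlgHom S₀ R₀ R)

lemma cmp_tmul (s : S) (r : R₀) : cmp S R S₀ R₀ (s ⊗ₜ[S₀] r) = algebraMap S R s * algebraMap R₀ R r := by
  simp [cmp]

lemma isScalarTower_base (k S R S₀ : Type u) [CommRing k] [CommRing S] [CommRing R] [CommRing S₀] [Algebra k S₀]
    [Algebra k S] [Algebra k R] [Algebra S R] [Algebra S₀ S] [Algebra S₀ R] [IsScalarTower k S₀ S]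
    [IsScalarTower k S R] [IsScalarTower S₀ S R] : IsScalarTower k S₀ R :=
  IsScalarTower.of_algebraMap_eq fun c => by
    rw [IsScalarTower.algebraMap_apply S₀ S R, ← IsScalarTower.algebraMap_apply k S₀ S, ← IsScalarTower.algebraMap_apply]

lemma isScalarTower_inv [IsScalarTower k S₀ R] (hR₀i : Function.Injective (algebraMap R₀ R)) :
    IsScalarTower k S₀ R₀ :=
  IsScalarTower.of_algebraMap_eq fun c => hR₀i (by
    rw [← IsScalarTower.algebraMap_apply, ← IsScalarTower.algebraMap_apply, ← IsScalarTower.algebraMap_apply])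

lemma trivial_isCoactAlg : @GLin.IsCoactAlg k _ A _ _ R₀ _ _ (Comod.trivial k A R₀) :=
  @GLin.IsCoactAlg.mk k _ A _ _ R₀ _ _ (Comod.trivial k A R₀) rfl fun f g => by
    show (f * g) ⊗ₜ[k] (1 : A) = (f ⊗ₜ[k] (1 : A)) * (g ⊗ₜ[k] (1 : A))
    rw [Algebra.TensorProduct.tmul_mul_tmul, mul_one]

theorem exists_kills_ker (hG : IsLinearlyReductive k A)
    (hequiv : ∀ s : S, Comod.coact (k := k) (A := A) (algebraMap S R s) =
      Algebra.TensorProduct.map (IsScalarTower.toAlgHom k S R) (AlgHom.id k A) (Comod.coact (k := k) (A := A) s))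
    (hS₀i : Function.Injective (algebraMap S₀ S)) (hS₀ : (IsScalarTower.toAlgHom k S₀ S).range = GLin.invariants k A S)
    (hR₀i : Function.Injective (algebraMap R₀ R)) (hR₀ : (IsScalarTower.toAlgHom k R₀ R).range = GLin.invariants k A R)
    (x : R →ₐ[k] k)
    (hy : GLin.IsClosedOrbit k A (x.comp (IsScalarTower.toAlgHom k S R)))
    (hthick : ∀ N : ℕ,
      (∀ r : R, ∃ s : S, r - algebraMap S R s ∈ RingHom.ker (GLin.orbitHom k A x) ^ (N + 1)) ∧
      ∀ s : S, algebraMap S R s ∈ RingHom.ker (GLin.orbitHom k A x) ^ (N + 1) →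
        s ∈ RingHom.ker (GLin.orbitHom k A (x.comp (IsScalarTower.toAlgHom k S R))) ^ (N + 1)) :
    ∃ t : R₀, x (algebraMap R₀ R t) = 1 ∧
      ∀ z : S ⊗[S₀] R₀, cmp S R S₀ R₀ z = 0 → ((1 : S) ⊗ₜ[S₀] t) * z = 0 := by
  classical
  haveI hT0 : IsScalarTower k S₀ R := isScalarTower_base k S R S₀
  haveI hT : IsScalarTower k S₀ R₀ := isScalarTower_inv (R := R) hR₀i
  haveI := finiteType_invariants hG hR₀i hR₀
  haveI : Algebra.FiniteType S₀ R₀ := Algebra.FiniteType.of_restrictScalars_finiteType k S₀ R₀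
  haveI : Algebra.FiniteType k (S ⊗[S₀] R₀) := Algebra.FiniteType.trans (S := S) inferInstance inferInstance
  haveI : IsNoetherianRing (S ⊗[S₀] R₀) := Algebra.FiniteType.isNoetherianRing k _
  have hmemR : ∀ r : R₀, algebraMap R₀ R r ∈ GLin.invariants k A R := fun r => hR₀ ▸ ⟨r, rfl⟩
  have hmemS : ∀ r : S₀, algebraMap S₀ S r ∈ GLin.invariants k A S := fun r => hS₀ ▸ ⟨r, rfl⟩
  letI : Comod k A R₀ := Comod.trivial k A R₀
  haveI : GLin.IsCoactAlg k A R₀ := trivial_isCoactAlg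
  have hB : ∀ s₀, algebraMap S₀ R₀ s₀ ∈ GLin.invariants k A R₀ := fun _ => rfl
  letI := tensorComod (k := k) (A := A) (B := R₀) hmemS hB
  haveI := tensor_isCoactAlg (k := k) (A := A) (B := R₀) hmemS hB
  let μ : S ⊗[S₀] R₀ →ₐ[k] R := (cmp S R S₀ R₀).restrictScalars k
  have hμl : μ.comp (incL S₀ S R₀) = IsScalarTower.toAlgHom k S R := AlgHom.ext fun s => by simp [μ]
  have hμr : μ.comp (incR S₀ S R₀) = IsScalarTower.toAlgHom k R₀ R := AlgHom.ext fun s => by simp [μ]
  have hμ : Hoch.IsComodHom A μ.toLinearMap := by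
    refine isComodHom_of_factors hmemS hB μ ?_ ?_
    · rw [hμl]; exact isComodHom_algebraMap hequiv
    · rw [hμr]
      exact LinearMap.ext fun r => hmemR r
  let p : S ⊗[S₀] R₀ →ₐ[k] k := x.comp μ
  have hp1 : p.comp (IsScalarTower.toAlgHom k S (S ⊗[S₀] R₀)) = x.comp (IsScalarTower.toAlgHom k S R) := by
    rw [AlgHom.comp_assoc]
    exact congrArg x.comp hμl
  have hp2 : ∀ r, p ((1 : S) ⊗ₜ[S₀] r) = x (algebraMap R₀ R r) := fun r => congrArg x (DFunLike.congr_fun hμr r)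
  have hinvR : ∀ r : R₀, ((1 : S) ⊗ₜ[S₀] r) ∈ GLin.invariants k A (S ⊗[S₀] R₀) := fun r =>
    coactT_incR (k := k) (A := A) hmemS hB r
  have hequivT : ∀ s : S, Comod.coact (k := k) (A := A) (algebraMap S (S ⊗[S₀] R₀) s) =
      Algebra.TensorProduct.map (IsScalarTower.toAlgHom k S (S ⊗[S₀] R₀)) (AlgHom.id k A)
        (Comod.coact (k := k) (A := A) s) := fun s => coactT_incL (k := k) (A := A) hmemS hB s
  -- the orbit of `p` is closed
  have hclosed : OrbitH28.Closed A p := by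
    intro w hw
    have hyc := (OrbitH28.closed_iff_isClosedOrbit _).2 hy
    obtain ⟨g, hg⟩ := hyc _ (hp1 ▸ inOrbitClosure_comp hequivT hw)
    refine ⟨g, ?_⟩
    refine algHom_ext (fun s => ?_) (fun r => ?_)
    · have := DFunLike.congr_fun ((mv_comp hequivT g p).symm.trans ((congrArg (OrbitH28.mv g) hp1).trans hg)) s
      exact this
    · rw [eq_of_inOrbitClosure hw (hinvR r), eq_of_inOrbitClosure (OrbitH28.inOrbitClosure_mv g p) (hinvR r)]
  -- the kernel is deep at `p`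
  set q : Ideal R₀ := (RingHom.ker x).comap (algebraMap R₀ R) with hq
  have hsub := exists_sub_mem_pow hG hequiv hS₀ hR₀i hR₀ x q hq fun N => (hthick N).1
  let I := RingHom.ker (GLin.orbitHom k A x)
  let Q : Ideal (S ⊗[S₀] R₀) := q.map (Algebra.TensorProduct.includeRight : R₀ →ₐ[S₀] S ⊗[S₀] R₀)
  have hQI : Q ≤ I.comap μ := Ideal.map_le_iff_le_comap.2 fun r hr => by
    show GLin.orbitHom k A x (μ (incR S₀ S R₀ (k := k) r)) = 0
    rw [← AlgHom.comp_apply μ, hμr]
    show GLin.orbitHom k A x (algebraMap R₀ R r) = 0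
    rw [orbitHom_of_mem_invariants x (hmemR r), show x (algebraMap R₀ R r) = 0 from hr, map_zero]
  have hQp : Q ≤ RingHom.ker p := Ideal.map_le_iff_le_comap.2 fun r hr => by
    show p ((1 : S) ⊗ₜ[S₀] r) = 0
    rw [hp2]; exact hr
  have happrox : ∀ (n : ℕ) (z : S ⊗[S₀] R₀), ∃ s : S, z - s ⊗ₜ[S₀] (1 : R₀) ∈ Q ^ n := by
    intro n z
    induction z with
    | zero => exact ⟨0, by simp⟩
    | add a b ha hb =>
      obtain ⟨s, hs⟩ := ha
      obtain ⟨s', hs'⟩ := hb
      exact ⟨s + s', by rw [TensorProduct.add_tmul, add_sub_add_comm]; exact add_mem hs hs'⟩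
    | tmul s r =>
      obtain ⟨s₀, hs₀⟩ := hsub r n
      refine ⟨s * algebraMap S₀ S s₀, ?_⟩
      have e : s ⊗ₜ[S₀] r - (s * algebraMap S₀ S s₀) ⊗ₜ[S₀] (1 : R₀) =
          (s ⊗ₜ[S₀] (1 : R₀)) * ((1 : S) ⊗ₜ[S₀] (r - algebraMap S₀ R₀ s₀)) := by
        rw [Algebra.TensorProduct.tmul_mul_tmul, mul_one, one_mul, TensorProduct.tmul_sub,
          Algebra.algebraMap_eq_smul_one, Algebra.algebraMap_eq_smul_one, mul_smul_comm, mul_one, TensorProduct.smul_tmul]
      rw [e]
      refine Ideal.mul_mem_left _ _ ?_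
      rw [← Ideal.map_pow]
      exact Ideal.mem_map_of_mem _ hs₀
  have hdeepK : ∀ z, μ z = 0 → ∀ n, z ∈ RingHom.ker p ^ n := by
    intro z hz n
    obtain ⟨s, hs⟩ := happrox (n + 1) z
    have h1 : algebraMap S R s ∈ I ^ (n + 1) := by
      have h := ((Ideal.pow_right_mono hQI _).trans (Ideal.le_comap_pow _ _)) hs
      rw [Ideal.mem_comap, map_sub, hz, zero_sub, neg_mem_iff] at h
      rwa [show μ (s ⊗ₜ[S₀] (1 : R₀)) = algebraMap S R s from DFunLike.congr_fun hμl s] at h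
    have h2 : s ⊗ₜ[S₀] (1 : R₀) ∈ RingHom.ker p ^ (n + 1) := by
      have hle : RingHom.ker (GLin.orbitHom k A (x.comp (IsScalarTower.toAlgHom k S R))) ≤
          (RingHom.ker p).comap (algebraMap S (S ⊗[S₀] R₀)) := fun t ht => by
        show p (t ⊗ₜ[S₀] (1 : R₀)) = 0
        rw [show p (t ⊗ₜ[S₀] (1 : R₀)) = x.comp (IsScalarTower.toAlgHom k S R) t from DFunLike.congr_fun hp1 t]
        exact inOrbitClosure_self _ ht
      exact ((Ideal.pow_right_mono hle _).trans (Ideal.le_comap_pow _ _)) ((hthick n).2 s h1)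
    have h3 := add_mem (Ideal.pow_right_mono hQp _ hs) h2
    rw [sub_add_cancel] at h3
    exact Ideal.pow_le_pow_right n.le_succ h3
  -- the annihilator of the kernel
  let K : Ideal (S ⊗[S₀] R₀) := RingHom.ker μ
  let Ann : Ideal (S ⊗[S₀] R₀) :=
    { carrier := {a | ∀ y ∈ K, a * y = 0}
      add_mem' := fun {a b} ha hb y hy => by rw [add_mul, ha y hy, hb y hy, add_zero]
      zero_mem' := fun y _ => zero_mul y
      smul_mem' := fun c a ha y hy => by rw [smul_eq_mul, mul_assoc, ha y hy, mul_zero] }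
  have hKs : IsSubcomod (k := k) (A := A) (K.restrictScalars k) := isSubcomod_ker hμ
  have hAnn : IsSubcomod (k := k) (A := A) (Ann.restrictScalars k) :=
    Groth.Agent.HopfMod.colon_isSubcomod (F := ⊥) hKs (by
      exact isSubcomod_bot (k := k) (A := A) (V := S ⊗[S₀] R₀)) _ fun r => Iff.rfl
  obtain ⟨gen, hgen⟩ := (IsNoetherian.noetherian K : K.FG)
  have hr : ∀ z ∈ gen, ∃ r ∈ RingHom.ker p, r * z = z := by
    intro z hz
    have hzK : z ∈ K := hgen ▸ Submodule.subset_span hz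
    obtain ⟨⟨r, hr⟩, hrz⟩ := (Ideal.mem_iInf_smul_pow_eq_bot_iff (I := RingHom.ker p) z).1 (by
      refine Submodule.mem_iInf _ |>.2 fun i => ?_
      rw [smul_eq_mul, Ideal.mul_top]
      exact hdeepK z hzK i)
    exact ⟨r, hr, hrz⟩
  choose! r hrp hrz using hr
  let a := ∏ z ∈ gen, (1 - r z)
  have ha : a ∈ Ann := by
    intro y hy
    rw [← hgen] at hy
    induction hy using Submodule.span_induction with
    | mem z hz =>
      rw [show a = (∏ w ∈ gen.erase z, (1 - r w)) * (1 - r z) from (Finset.prod_erase_mul gen _ hz).symm,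
        mul_assoc, sub_mul, one_mul, hrz z hz, sub_self, mul_zero]
    | zero => exact mul_zero a
    | add u v _ _ hu hv => rw [mul_add, hu, hv, add_zero]
    | smul c u _ hu => rw [smul_eq_mul, mul_left_comm, hu, mul_zero]
  have hpa : p a ≠ 0 := by
    rw [map_prod, Finset.prod_eq_one fun z hz => by
      rw [map_sub, map_one, show p (r z) = 0 from hrp z hz, sub_zero]]
    exact one_ne_zero
  obtain ⟨d, hd, hdinv, hpd⟩ := OrbitH28.exists_invariant_of_closed hG hclosed hAnn ha hpa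
  -- invariants of the fibre product
  obtain ⟨E, hE⟩ := exists_reynolds (V := S ⊗[S₀] R₀) (A := A) hG
  obtain ⟨E', hE'⟩ := exists_reynolds (V := S) (A := A) hG
  have hrange : ∀ z, ∃ t : R₀, E z = (1 : S) ⊗ₜ[S₀] t := by
    intro z
    induction z with
    | zero => exact ⟨0, by simp⟩
    | add a b ha hb =>
      obtain ⟨t, ht⟩ := ha
      obtain ⟨t', ht'⟩ := hb
      exact ⟨t + t', by rw [map_add, ht, ht', TensorProduct.tmul_add]⟩
    | tmul s r =>
      obtain ⟨s₀, hs₀⟩ : E' s ∈ (IsScalarTower.toAlgHom k S₀ S).range := by rw [hS₀]; exact hE'.mem s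
      refine ⟨algebraMap S₀ R₀ s₀ * r, ?_⟩
      have e : E (s ⊗ₜ[S₀] (1 : R₀)) = E' s ⊗ₜ[S₀] (1 : R₀) :=
        LinearMap.congr_fun (hE'.comp_comm hG hE (isComodHom_incL (k := k) (A := A) hmemS hB)) s
      rw [show s ⊗ₜ[S₀] r = (s ⊗ₜ[S₀] (1 : R₀)) * ((1 : S) ⊗ₜ[S₀] r) by simp,
        Groth.Agent.HopfMod.reynolds_mul_invariant hG hE _ (hinvR r), e,
        ← show algebraMap S₀ S s₀ = E' s from hs₀, Algebra.TensorProduct.tmul_one_eq_one_tmul,
        Algebra.TensorProduct.tmul_mul_tmul, mul_one]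
  obtain ⟨t, ht⟩ := hrange d
  rw [(hE.fix d).2 hdinv] at ht
  refine ⟨t, by rw [← hp2, ← ht, hpd], fun z hz => ?_⟩
  rw [← ht]
  exact hd z (show μ z = 0 from hz)

end Groth.Agent.EtQuotH28
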