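import Groth.Agent.Lib.EtQuotH28.Nbhd
import Mathlib.RingTheory.Smooth.Basic
import Mathlib.RingTheory.Unramified.Basic

/-!
# An étale map injective on a closed orbit identifies the infinitesimal neighbourhoods
-/

open TensorProduct HopfRep WithConv Groth.Agent.Comodule

universe u

namespace Groth.Agent.EtQuotH28

variable {k : Type u} [Field k] [IsAlgClosed k] [CharZero k] {A : Type u} [CommRing A] [HopfAlgebra k A]
  [Algebra.FiniteType k A] [IsDomain A]
  {S : Type u} [CommRing S] [Algebra k S] [Algebra.FiniteType k S] [Comod k A S] [GLin.IsCoactAlg k A S]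
  {R : Type u} [CommRing R] [Algebra k R] [Algebra.FiniteType k R] [Comod k A R] [GLin.IsCoactAlg k A R]
  [Algebra S R] [IsScalarTower k S R] [IsReduced R] [IsReduced S]
  (hequiv : ∀ s : S, Comod.coact (k := k) (A := A) (algebraMap S R s) =
      Algebra.TensorProduct.map (IsScalarTower.toAlgHom k S R) (AlgHom.id k A) (Comod.coact (k := k) (A := A) s))
  {x : R →ₐ[k] k}
  (hy : GLin.IsClosedOrbit k A (x.comp (IsScalarTower.toAlgHom k S R)))
  (hinj : ∀ g : A →ₐ[k] k, GLin.actPt k g (x.comp (IsScalarTower.toAlgHom k S R)) =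
      x.comp (IsScalarTower.toAlgHom k S R) → GLin.actPt k g x = x)
  {c : R} (hc : c - 1 ∈ RingHom.ker (GLin.orbitHom k A x))
  (hcet : Algebra.Etale S (Localization.Away c))

include hequiv hy hinj hc hcet

/-- The orbit algebras agree. -/
theorem orb_eq (r : R) : GLin.orbitHom k A x r ∈
    (GLin.orbitHom k A (x.comp (IsScalarTower.toAlgHom k S R))).range := by
  haveI := hcet
  set y := x.comp (IsScalarTower.toAlgHom k S R) with hydef
  haveI := OrbitFlatH28.faithfullyFlat_orb hy
  let T := A ⊗[OrbitFlatH28.orb A y] A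
  haveI : Algebra.FiniteType k T := by
    haveI : Algebra.FiniteType (OrbitFlatH28.orb A y) A :=
      Algebra.FiniteType.of_restrictScalars_finiteType k (OrbitFlatH28.orb A y) A
    haveI : Algebra.FiniteType A T := inferInstance
    exact Algebra.FiniteType.trans (S := A) inferInstance inferInstance
  haveI : IsJacobsonRing T := isJacobsonRing_of_finiteType (A := k)
  haveI : IsNoetherianRing T := Algebra.FiniteType.isNoetherianRing k T
  let g1 : A →ₐ[k] T := (Algebra.TensorProduct.includeLeft : A →ₐ[OrbitFlatH28.orb A y] T).restrictScalars k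
  let g2 : A →ₐ[k] T := (Algebra.TensorProduct.includeRight : A →ₐ[OrbitFlatH28.orb A y] T).restrictScalars k
  let φ := GLin.orbitHom k A x
  have hS : ∀ s : S, g1 (φ (algebraMap S R s)) = g2 (φ (algebraMap S R s)) := by
    intro s
    have e : φ (algebraMap S R s) = GLin.orbitHom k A y s := by
      rw [hydef, orbitHom_comp hequiv]; rfl
    rw [e]
    exact Algebra.TensorProduct.tmul_one_eq_one_tmul (R := OrbitFlatH28.orb A y) (A := A) (B := A)
      (⟨GLin.orbitHom k A y s, s, rfl⟩ : OrbitFlatH28.orb A y)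
  letI : Algebra S T := (g1.toRingHom.comp (φ.toRingHom.comp (algebraMap S R))).toAlgebra
  have hφc : φ c = 1 := by
    rw [← sub_eq_zero, ← map_one φ, ← map_sub]
    exact hc
  let f1 : R →ₐ[S] T := { g1.toRingHom.comp φ.toRingHom with commutes' := fun s => rfl }
  let f2 : R →ₐ[S] T := { g2.toRingHom.comp φ.toRingHom with commutes' := fun s => (hS s).symm }
  have hu1 : ∀ z : Submonoid.powers c, IsUnit (f1 z) := by
    rintro ⟨_, n, rfl⟩
    show IsUnit (g1 (φ (c ^ n)))
    rw [map_pow, hφc, one_pow, map_one]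
    exact isUnit_one
  have hu2 : ∀ z : Submonoid.powers c, IsUnit (f2 z) := by
    rintro ⟨_, n, rfl⟩
    show IsUnit (g2 (φ (c ^ n)))
    rw [map_pow, hφc, one_pow, map_one]
    exact isUnit_one
  let F1 : Localization.Away c →ₐ[S] T := IsLocalization.liftAlgHom (M := Submonoid.powers c) (f := f1) hu1
  let F2 : Localization.Away c →ₐ[S] T := IsLocalization.liftAlgHom (M := Submonoid.powers c) (f := f2) hu2
  have hnil : ∀ r : R, f1 r - f2 r ∈ nilradical T := by
    intro r
    have hrad : nilradical T = (nilradical T).jacobson :=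
      (IsJacobsonRing.out inferInstance (Ideal.radical_isRadical (⊥ : Ideal T))).symm
    rw [hrad, Ideal.jacobson, Ideal.mem_sInf]
    rintro M ⟨-, hM⟩
    haveI := hM
    obtain ⟨t, ht⟩ := FreeOrbH28.exists_point_of_isMaximal (k := k) M
    let h1 : WithConv (A →ₐ[k] k) := toConv (t.comp g1)
    let h2 : WithConv (A →ₐ[k] k) := toConv (t.comp g2)
    have e : OrbitH28.mv h1 y = OrbitH28.mv h2 y := AlgHom.ext fun s => by
      rw [OrbitH28.mv_apply, OrbitH28.mv_apply, hydef, orbitHom_comp hequiv]
      exact congrArg t (hS s)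
    have e' : OrbitH28.mv h1 x = OrbitH28.mv h2 x := by
      have hfix : OrbitH28.mv (h1 * h2⁻¹) y = y := by
        rw [← OrbitH28.mv_mv, e, OrbitH28.mv_mv, mul_inv_cancel, OrbitH28.mv_one]
      have hx' : OrbitH28.mv (h1 * h2⁻¹) x = x := hinj (h1 * h2⁻¹).ofConv hfix
      conv_rhs => rw [← hx', OrbitH28.mv_mv, inv_mul_cancel_right]
    rw [← ht, RingHom.mem_ker, map_sub, sub_eq_zero]
    exact DFunLike.congr_fun e' r
  have hF : F1 = F2 := by
    refine Algebra.FormallyUnramified.lift_unique (nilradical T)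
      (IsNoetherianRing.isNilpotent_nilradical T) F1 F2 ?_
    refine AlgHom.coe_ringHom_injective (IsLocalization.ringHom_ext (Submonoid.powers c) (RingHom.ext fun r => ?_))
    show Ideal.Quotient.mk (nilradical T) (F1 (algebraMap R _ r)) = Ideal.Quotient.mk (nilradical T) (F2 (algebraMap R _ r))
    simp only [F1, F2, IsLocalization.liftAlgHom_apply, IsLocalization.lift_eq]
    exact Ideal.Quotient.eq.2 (hnil r)
  have h12 : g1 (φ r) = g2 (φ r) := by
    have := DFunLike.congr_fun hF (algebraMap R (Localization.Away c) r)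
    simp only [F1, F2, IsLocalization.liftAlgHom_apply, IsLocalization.lift_eq] at this
    exact this
  have heff := Algebra.IsEffective.eqLocus_includeLeft_includeRight
    (Algebra.IsEffective.of_faithfullyFlat (R := OrbitFlatH28.orb A y) (S := A))
  obtain ⟨b, hb⟩ := (Set.ext_iff.1 heff (φ r)).1 h12
  exact hb ▸ b.2

set_option maxHeartbeats 1000000 in
/-- The thickenings of the orbits agree. -/
theorem thickening_iso (N : ℕ) :
    (∀ r : R, ∃ s : S, r - algebraMap S R s ∈ RingHom.ker (GLin.orbitHom k A x) ^ (N + 1)) ∧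
      ∀ s : S, algebraMap S R s ∈ RingHom.ker (GLin.orbitHom k A x) ^ (N + 1) →
        s ∈ RingHom.ker (GLin.orbitHom k A (x.comp (IsScalarTower.toAlgHom k S R))) ^ (N + 1) := by
  have horb := orb_eq hequiv hy hinj hc hcet
  haveI := hcet
  set y := x.comp (IsScalarTower.toAlgHom k S R) with hydef
  let I := RingHom.ker (GLin.orbitHom k A x)
  let J := RingHom.ker (GLin.orbitHom k A y)
  let By := OrbitFlatH28.orb A y
  have hφy : ∀ s, GLin.orbitHom k A y s = GLin.orbitHom k A x (algebraMap S R s) := fun s => by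
    rw [hydef, orbitHom_comp hequiv]; rfl
  letI : Algebra S By := (GLin.orbitHom k A y).rangeRestrict.toRingHom.toAlgebra
  let fR : R →ₐ[S] By :=
    { ((GLin.orbitHom k A x).codRestrict By horb).toRingHom with
      commutes' := fun s => Subtype.ext (hφy s).symm }
  have hφc : fR c = 1 := Subtype.ext (by
    show GLin.orbitHom k A x c = 1
    rw [← sub_eq_zero, ← map_one (GLin.orbitHom k A x), ← map_sub]
    exact hc)
  let fRc : Localization.Away c →ₐ[S] By := IsLocalization.liftAlgHom (M := Submonoid.powers c) (f := fR) (by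
    rintro ⟨_, n, rfl⟩
    show IsUnit (fR (c ^ n))
    rw [map_pow, hφc, one_pow]
    exact isUnit_one)
  let q : S ⧸ J ^ (N + 1) →ₐ[S] By := Ideal.Quotient.liftₐ _ (Algebra.ofId S By) fun s hs =>
    Subtype.ext (Ideal.pow_le_self N.succ_ne_zero hs : GLin.orbitHom k A y s = 0)
  have hqsurj : Function.Surjective q := by
    rintro ⟨_, s, rfl⟩
    exact ⟨Ideal.Quotient.mk _ s, rfl⟩
  have hker : RingHom.ker (q : S ⧸ J ^ (N + 1) →+* By) ≤ J.map (Ideal.Quotient.mk (J ^ (N + 1))) := by
    intro z hz
    obtain ⟨s, rfl⟩ := Ideal.Quotient.mk_surjective z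
    exact Ideal.mem_map_of_mem _ (congrArg Subtype.val hz : GLin.orbitHom k A y s = 0)
  have hpow : RingHom.ker (q : S ⧸ J ^ (N + 1) →+* By) ^ (N + 1) = ⊥ := by
    refine le_bot_iff.1 ((Ideal.pow_right_mono hker _).trans ?_)
    rw [← Ideal.map_pow, Ideal.map_quotient_self]
  let L : Localization.Away c →ₐ[S] S ⧸ J ^ (N + 1) :=
    Algebra.FormallySmooth.liftOfSurjective fRc q hqsurj ⟨N + 1, hpow⟩
  let L' : R →ₐ[S] S ⧸ J ^ (N + 1) := L.comp (IsScalarTower.toAlgHom S R (Localization.Away c))
  have hqL : ∀ r, q (L' r) = fR r := fun r => by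
    refine (Algebra.FormallySmooth.liftOfSurjective_apply fRc q hqsurj ⟨N + 1, hpow⟩ (algebraMap R _ r)).trans ?_
    simp only [fRc, IsLocalization.liftAlgHom_apply, IsLocalization.lift_eq]
    rfl
  constructor
  · intro r
    let ψ : S ⧸ J ^ (N + 1) →ₐ[S] R ⧸ I ^ (N + 1) := Ideal.Quotient.liftₐ _
      (Algebra.ofId S (R ⧸ I ^ (N + 1))) fun s hs => by
        show Ideal.Quotient.mk (I ^ (N + 1)) (algebraMap S R s) = 0
        rw [Ideal.Quotient.eq_zero_iff_mem]
        have : (J.map (algebraMap S R)) ≤ I := Ideal.map_le_iff_le_comap.2 fun t ht => by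
          show GLin.orbitHom k A x (algebraMap S R t) = 0
          rw [← hφy]; exact ht
        have h2 := Ideal.mem_map_of_mem (algebraMap S R) hs
        rw [Ideal.map_pow] at h2
        exact Ideal.pow_right_mono this _ h2
    have hunit : ∀ z : Submonoid.powers c, IsUnit (Ideal.Quotient.mkₐ S (I ^ (N + 1)) z) := by
      rintro ⟨_, n, rfl⟩
      show IsUnit (Ideal.Quotient.mk (I ^ (N + 1)) (c ^ n))
      rw [map_pow]
      refine IsUnit.pow _ ?_
      have hnil : IsNilpotent (Ideal.Quotient.mk (I ^ (N + 1)) (c - 1)) := ⟨N + 1, by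
        rw [← map_pow, Ideal.Quotient.eq_zero_iff_mem]
        exact Ideal.pow_mem_pow hc _⟩
      have := hnil.isUnit_add_one
      rwa [← map_one (Ideal.Quotient.mk (I ^ (N + 1))), ← map_add, sub_add_cancel] at this
    let θ : Localization.Away c →ₐ[S] R ⧸ I ^ (N + 1) :=
      IsLocalization.liftAlgHom (M := Submonoid.powers c) (f := Ideal.Quotient.mkₐ S (I ^ (N + 1))) hunit
    let q' : R ⧸ I ^ (N + 1) →ₐ[S] By := Ideal.Quotient.liftₐ _ fR fun i hi =>
      Subtype.ext (Ideal.pow_le_self N.succ_ne_zero hi : GLin.orbitHom k A x i = 0)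
    have hq'nil : IsNilpotent (RingHom.ker (q' : R ⧸ I ^ (N + 1) →+* By)) := by
      refine ⟨N + 1, le_bot_iff.1 ((Ideal.pow_right_mono (?_ : _ ≤ I.map (Ideal.Quotient.mk (I ^ (N + 1)))) _).trans ?_)⟩
      · intro z hz
        obtain ⟨i, rfl⟩ := Ideal.Quotient.mk_surjective z
        exact Ideal.mem_map_of_mem _ (congrArg Subtype.val hz : GLin.orbitHom k A x i = 0)
      · rw [← Ideal.map_pow, Ideal.map_quotient_self]
    have hq'ψ : ∀ z, q' (ψ z) = q z := fun z => by
      obtain ⟨s, rfl⟩ := Ideal.Quotient.mk_surjective z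
      exact fR.commutes s
    have hθ : θ = ψ.comp L := by
      refine Algebra.FormallyUnramified.lift_unique_of_ringHom (q' : R ⧸ I ^ (N + 1) →+* By) hq'nil _ _ ?_
      refine IsLocalization.ringHom_ext (Submonoid.powers c) (RingHom.ext fun r => ?_)
      show q' (θ (algebraMap R _ r)) = q' (ψ (L' r))
      rw [hq'ψ, hqL]
      simp only [θ, IsLocalization.liftAlgHom_apply, IsLocalization.lift_eq]
      rfl
    obtain ⟨s, hs⟩ := Ideal.Quotient.mk_surjective (L' r)
    refine ⟨s, Ideal.Quotient.eq.1 ?_⟩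
    have h := DFunLike.congr_fun hθ (algebraMap R (Localization.Away c) r)
    simp only [θ, IsLocalization.liftAlgHom_apply, IsLocalization.lift_eq] at h
    have h' : (ψ.comp L) (algebraMap R (Localization.Away c) r) = Ideal.Quotient.mk (I ^ (N + 1)) (algebraMap S R s) := by
      show ψ (L' r) = _
      rw [← hs]
      rfl
    exact h.trans h'
  · intro s hs
    have hI : I ≤ (RingHom.ker (q : S ⧸ J ^ (N + 1) →+* By)).comap L' := fun i hi => by
      show q (L' i) = 0
      rw [hqL]
      exact Subtype.ext hi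
    have h0 : L' (algebraMap S R s) = 0 := by
      have := (Ideal.pow_right_mono hI (N + 1)).trans (Ideal.le_comap_pow _ (N + 1)) hs
      rwa [Ideal.mem_comap, hpow, Ideal.mem_bot] at this
    rw [AlgHom.commutes] at h0
    exact Ideal.Quotient.eq_zero_iff_mem.1 h0

end Groth.Agent.EtQuotH28
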