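import Groth.Agent.Lib.EtQuotH28.Inj
import Mathlib.RingTheory.Filtration
import Mathlib.RingTheory.Finiteness.Nakayama

/-!
# The comparison map to the fibre product over the quotients is surjective near a closed orbit
-/

open TensorProduct HopfRep WithConv Groth.Agent.Comodule

universe u

namespace Groth.Agent.EtQuotH28

set_option linter.unusedSectionVars false

variable {k : Type u} [Field k] [IsAlgClosed k] [CharZero k] {A : Type u} [CommRing A] [HopfAlgebra k A]
  [Algebra.FiniteType k A] [IsDomain A]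
  {S : Type u} [CommRing S] [Algebra k S] [Algebra.FiniteType k S] [Comod k A S] [GLin.IsCoactAlg k A S]
  {R : Type u} [CommRing R] [Algebra k R] [Algebra.FiniteType k R] [Comod k A R] [GLin.IsCoactAlg k A R]
  [Algebra S R] [IsScalarTower k S R]
  {S₀ : Type u} [CommRing S₀] [Algebra k S₀] [Algebra S₀ S] [IsScalarTower k S₀ S]
  {R₀ : Type u} [CommRing R₀] [Algebra k R₀] [Algebra R₀ R] [IsScalarTower k R₀ R]
  [Algebra S₀ R₀] [Algebra S₀ R] [IsScalarTower S₀ S R] [IsScalarTower S₀ R₀ R]

lemma scalars_invariant (c : k) : algebraMap k R c ∈ GLin.invariants k A R := Subalgebra.algebraMap_mem _ c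

/-- The invariant attached to an element: antipode on the coefficients of its coaction. -/
noncomputable def twistInv (r : R) : R ⊗[k] A :=
  (HopfAlgebraStruct.antipode (R := k) (A := A)).lTensor R (Comod.coact (k := k) (A := A) r)

lemma twistInv_fixed (r : R) :
    letI : GLin.IsCoactAlg k A A := regular_isCoactAlg
    coactT (scalars_invariant (A := A) (R := R)) (scalars_invariant (A := A) (R := A)) (twistInv (A := A) r) =
      twistInv (A := A) r ⊗ₜ[k] (1 : A) := by
  letI : GLin.IsCoactAlg k A A := regular_isCoactAlg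
  let hL := scalars_invariant (k := k) (A := A) (R := R)
  let hA := scalars_invariant (k := k) (A := A) (R := A)
  let K : A ⊗[k] A →ₗ[k] A ⊗[k] A := LinearMap.mul' k (A ⊗[k] A) ∘ₗ TensorProduct.map
    (Algebra.TensorProduct.includeRight : A →ₐ[k] A ⊗[k] A).toLinearMap
    (CoalgebraStruct.comul ∘ₗ HopfAlgebraStruct.antipode (R := k) (A := A))
  have e : ∀ z : R ⊗[k] A, coactT hL hA ((HopfAlgebraStruct.antipode (R := k) (A := A)).lTensor R z) =
      (TensorProduct.assoc k R A A).symm (K.lTensor R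
        (TensorProduct.assoc k R A A ((Comod.coact (k := k) (A := A)).rTensor A z))) := by
    intro z
    induction z with
    | zero => simp
    | add p q hp hq => simp only [map_add, hp, hq]
    | tmul c a =>
      rw [LinearMap.lTensor_tmul, LinearMap.rTensor_tmul,
        show c ⊗ₜ[k] HopfAlgebraStruct.antipode (R := k) a = incL k R A (k := k) c * incR k R A (k := k) (HopfAlgebraStruct.antipode (R := k) a) by simp,
        map_mul, coactT_incL, coactT_incR]
      generalize Comod.coact (k := k) (A := A) c = d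
      induction d with
      | zero => simp
      | add p q hp hq => simp only [map_add, add_mul, TensorProduct.add_tmul, hp, hq]
      | tmul c' a' =>
        simp only [K, LinearMap.comp_apply, TensorProduct.assoc_tmul, LinearMap.lTensor_tmul, TensorProduct.map_tmul,
          LinearMap.rTensor_tmul, AlgHom.toLinearMap_apply, Algebra.TensorProduct.includeRight_apply,
          LinearMap.mul'_apply, incL_apply]
        rw [show Comod.coact (k := k) (A := A) (HopfAlgebraStruct.antipode (R := k) a) =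
          CoalgebraStruct.comul (R := k) (HopfAlgebraStruct.antipode (R := k) a) from rfl]
        generalize CoalgebraStruct.comul (R := k) (HopfAlgebraStruct.antipode (R := k) a) = w
        induction w with
        | zero => simp
        | add p q hp hq => simp only [map_add, mul_add, TensorProduct.tmul_add, hp, hq]
        | tmul u v => simp
  have h := LinearMap.congr_fun (Comod.coassoc (k := k) (A := A) (V := R)) r
  simp only [LinearMap.comp_apply, LinearEquiv.coe_coe] at h
  show coactT hL hA _ = _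
  rw [twistInv, e, h, ← LinearMap.lTensor_comp_apply]
  have hK : K ∘ₗ CoalgebraStruct.comul (R := k) =
      (TensorProduct.mk k A A).flip 1 ∘ₗ HopfAlgebraStruct.antipode (R := k) (A := A) :=
    LinearMap.ext fun c => Groth.Agent.HopfMod.comul_antipode_key c
  rw [hK]
  generalize Comod.coact (k := k) (A := A) r = w
  induction w with
  | zero => simp
  | add p q hp hq => simp only [map_add, TensorProduct.add_tmul, hp, hq]
  | tmul u v => simp

theorem exists_conductor (hG : IsLinearlyReductive k A)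
    (hequiv : ∀ s : S, Comod.coact (k := k) (A := A) (algebraMap S R s) =
      Algebra.TensorProduct.map (IsScalarTower.toAlgHom k S R) (AlgHom.id k A) (Comod.coact (k := k) (A := A) s))
    (hR₀i : Function.Injective (algebraMap R₀ R)) (hR₀ : (IsScalarTower.toAlgHom k R₀ R).range = GLin.invariants k A R)
    (x : R →ₐ[k] k)
    (hthick : ∀ (N : ℕ) (r : R), ∃ s : S, r - algebraMap S R s ∈ RingHom.ker (GLin.orbitHom k A x) ^ (N + 1))
    (r : R) : ∃ t : R₀, x (algebraMap R₀ R t) = 1 ∧ ∃ z, cmp S R S₀ R₀ z = algebraMap R₀ R t * r := by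
  classical
  haveI : IsScalarTower k S₀ R := isScalarTower_base k S R S₀
  haveI : IsNoetherianRing R := Algebra.FiniteType.isNoetherianRing k R
  letI : GLin.IsCoactAlg k A A := regular_isCoactAlg
  let hL := scalars_invariant (k := k) (A := A) (R := R)
  let hA := scalars_invariant (k := k) (A := A) (R := A)
  letI := tensorComod (k := k) (A := A) (S := R) (B := A) hL hA
  haveI := tensor_isCoactAlg (k := k) (A := A) (S := R) (B := A) hL hA
  let iL : R →ₐ[k] R ⊗[k] A := incL k R A
  let iR : A →ₐ[k] R ⊗[k] A := incR k R A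
  have hmemR : ∀ r : R₀, algebraMap R₀ R r ∈ GLin.invariants k A R := fun r => hR₀ ▸ ⟨r, rfl⟩
  let I := RingHom.ker (GLin.orbitHom k A x)
  have hIs := isSubcomod_idealPow (A := A) (I := I) (isSubcomod_ker_orbitHom x)
  -- the coefficients
  obtain ⟨sr, hsr⟩ := TensorProduct.exists_finset (Comod.coact (k := k) (A := A) r)
  obtain ⟨U, hU, hUfin, hUmem⟩ := Groth.Agent.FinGenH28.exists_finite_subcomod_finset (k := k) (A := A)
    (sr.image fun p => HopfAlgebraStruct.antipode (R := k) p.2)
  obtain ⟨sU, hsU⟩ := (Module.Finite.iff_fg.1 hUfin : U.FG)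
  let W : Submodule k R → Submodule k (R ⊗[k] A) := fun N => N.map iL.toLinearMap * U.map iR.toLinearMap
  have hWs : ∀ N, IsSubcomod (k := k) (A := A) N → IsSubcomod (k := k) (A := A) (W N) := fun N hN =>
    Groth.Agent.FinGenH28.isSubcomod_mul (isSubcomod_map (isComodHom_incL hL hA) hN)
      (isSubcomod_map (isComodHom_incR hL hA) hU)
  have hWmul : ∀ (c : R) (N : Submodule k R), (∀ n ∈ N, c * n ∈ N) → ∀ p ∈ W N, iL c * p ∈ W N := by
    intro c N hN p hp
    induction hp using Submodule.mul_induction_on' with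
    | mem_mul_mem a ha b hb =>
      obtain ⟨n, hn, rfl⟩ := ha
      rw [← mul_assoc, AlgHom.toLinearMap_apply, ← map_mul]
      exact Submodule.mul_mem_mul ⟨c * n, hN n hn, rfl⟩ hb
    | add a _ b _ ha hb => rw [mul_add]; exact add_mem ha hb
  have hsmul : ∀ (r₀ : R₀) (p : R ⊗[k] A), r₀ • p = iL (algebraMap R₀ R r₀) * p := fun r₀ p => Algebra.smul_def r₀ p
  have hsmulR : ∀ (c : R) (p : R ⊗[k] A), c • p = iL c * p := fun c p => Algebra.smul_def c p
  have hiLinv : ∀ r₀ : R₀, iL (algebraMap R₀ R r₀) ∈ GLin.invariants k A (R ⊗[k] A) := fun r₀ => by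
    show Comod.coact (k := k) (A := A) (iL (algebraMap R₀ R r₀)) = _
    refine (coactT_incL hL hA _).trans ?_
    rw [show Comod.coact (k := k) (A := A) (algebraMap R₀ R r₀) = algebraMap R₀ R r₀ ⊗ₜ[k] (1 : A) from hmemR r₀]
    rfl
  let M : Submodule R₀ (R ⊗[k] A) :=
    { carrier := {p | p ∈ fixedPts k A (R ⊗[k] A) ∧ p ∈ W ⊤}
      add_mem' := fun ha hb => ⟨add_mem ha.1 hb.1, add_mem ha.2 hb.2⟩
      zero_mem' := ⟨zero_mem _, zero_mem _⟩
      smul_mem' := fun r₀ p hp => ⟨by rw [hsmul]; exact (GLin.invariants k A (R ⊗[k] A)).mul_mem (hiLinv r₀) hp.1,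
        by rw [hsmul]; exact hWmul _ _ (fun _ _ => Submodule.mem_top) p hp.2⟩ }
  let Wsp : Submodule R (R ⊗[k] A) := Submodule.span R (iR '' (sU : Set A))
  have hUW : ∀ u ∈ U, iR u ∈ Wsp := fun u hu => by
    have : Submodule.span k (sU : Set A) ≤ (Wsp.restrictScalars k).comap iR.toLinearMap :=
      Submodule.span_le.2 fun u hu => Submodule.subset_span ⟨u, hu, rfl⟩
    exact this (hsU.symm ▸ hu)
  have hWJ : ∀ J : Ideal R, W (J.restrictScalars k) ≤ (J • Wsp).restrictScalars k := by
    intro J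
    refine Submodule.mul_le.2 fun a ha b hb => ?_
    obtain ⟨c, hc, rfl⟩ := ha
    obtain ⟨u, hu, rfl⟩ := hb
    show iL c * iR u ∈ J • Wsp
    rw [← hsmulR]
    exact Submodule.smul_mem_smul hc (hUW u hu)
  have hWtop : W ⊤ ≤ Wsp.restrictScalars k := by
    have h := hWJ ⊤
    rwa [Submodule.top_smul, Submodule.restrictScalars_top] at h
  let Qs : Submodule R (R ⊗[k] A) := Submodule.span R (M : Set (R ⊗[k] A))
  have hQW : Qs ≤ Wsp := Submodule.span_le.2 fun p hp => hWtop hp.2
  haveI : Module.Finite R Wsp := Module.Finite.span_of_finite R (sU.finite_toSet.image iR)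
  haveI : IsNoetherian R Wsp := isNoetherian_of_isNoetherianRing_of_finite R Wsp
  obtain ⟨sM, hsM, hspan⟩ := (Submodule.fg_span_iff_fg_span_finset_subset (M : Set (R ⊗[k] A))).1
    (isNoetherian_submodule.1 inferInstance Qs hQW)
  obtain ⟨E, hE⟩ := exists_reynolds (V := R ⊗[k] A) (A := A) hG
  obtain ⟨ER, hER⟩ := exists_reynolds (V := R) (A := A) hG
  have hEsmul : ∀ (c : R) (y : R ⊗[k] A), y ∈ M → ∃ r₀ : R₀, algebraMap R₀ R r₀ = ER c ∧ E (c • y) = r₀ • y := by
    intro c y hy
    obtain ⟨r₀, hr₀⟩ : ER c ∈ (IsScalarTower.toAlgHom k R₀ R).range := by rw [hR₀]; exact hER.mem c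
    have hr₀' : algebraMap R₀ R r₀ = ER c := hr₀
    refine ⟨r₀, hr₀', ?_⟩
    rw [hsmulR, hsmul, hr₀', Groth.Agent.HopfMod.reynolds_mul_invariant hG hE _ (show y ∈ GLin.invariants k A _ from hy.1),
      show E (iL c) = iL (ER c) from LinearMap.congr_fun (hER.comp_comm hG hE (isComodHom_incL hL hA)) c]
  have hMfg : M.FG := ⟨sM, le_antisymm (Submodule.span_le.2 hsM) fun m hm => by
    have h : m ∈ Submodule.span R (sM : Set (R ⊗[k] A)) := hspan ▸ Submodule.subset_span hm
    obtain ⟨c, -, hc⟩ := Submodule.mem_span_finset.1 h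
    rw [← (hE.fix m).2 hm.1, ← hc, map_sum]
    refine sum_mem fun y hy => ?_
    obtain ⟨r₀, -, e⟩ := hEsmul (c y) y (hsM hy)
    rw [e]
    exact Submodule.smul_mem _ _ (Submodule.subset_span hy)⟩
  set q : Ideal R₀ := (RingHom.ker x).comap (algebraMap R₀ R) with hq
  -- Artin–Rees
  obtain ⟨k₀, hk₀⟩ := Ideal.exists_pow_inf_eq_pow_smul I (Qs.comap Wsp.subtype)
  obtain ⟨N₁, hN₁⟩ := exists_deep (A := A) hG hR₀i hR₀ x q hq 1
  have hdeep : ∀ m ∈ M, m ∈ I ^ (N₁ + k₀) • Wsp → m ∈ q • M := by
    intro m hm hmI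
    have hm' : m ∈ I ^ N₁ • Qs := by
      have h1 : (⟨m, hQW (Submodule.subset_span hm)⟩ : Wsp) ∈
          I ^ (N₁ + k₀) • (⊤ : Submodule R Wsp) ⊓ Qs.comap Wsp.subtype :=
        ⟨(Submodule.mem_smul_top_iff _ _ _).2 hmI, show m ∈ Qs from Submodule.subset_span hm⟩
      rw [hk₀ _ (Nat.le_add_left _ _), Nat.add_sub_cancel] at h1
      have h2 := Submodule.mem_map_of_mem (f := Wsp.subtype) h1
      rw [Submodule.map_smul''] at h2
      refine Submodule.smul_mono le_rfl ?_ h2
      exact (Submodule.map_mono inf_le_right).trans (Submodule.map_comap_le _ _)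
    rw [← (hE.fix m).2 hm.1]
    clear hmI hm
    refine Submodule.smul_induction_on hm' ?_ fun u v hu hv => by rw [map_add]; exact add_mem hu hv
    intro c hc y hy
    revert c
    induction hy using Submodule.span_induction with
    | mem y hy =>
      intro c hc
      obtain ⟨r₀, hr₀, e⟩ := hEsmul c y hy
      rw [e]
      refine Submodule.smul_mem_smul ?_ hy
      have := hN₁ r₀ (hr₀ ▸ hER.apply_mem hG (hIs N₁) hc)
      rwa [pow_one] at this
    | zero => intro c _; rw [smul_zero, map_zero]; exact zero_mem _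
    | add u v _ _ hu hv => intro c hc; rw [smul_add, map_add]; exact add_mem (hu c hc) (hv c hc)
    | smul d u _ hu => intro c hc; rw [smul_smul]; exact hu (c * d) (Ideal.mul_mem_right _ _ hc)
  -- the image of the fibre product
  let C : Submodule k R := LinearMap.range (IsScalarTower.toAlgHom k S R).toLinearMap *
    LinearMap.range (IsScalarTower.toAlgHom k R₀ R).toLinearMap
  have hCs : IsSubcomod (k := k) (A := A) C := by
    refine Groth.Agent.FinGenH28.isSubcomod_mul ?_ ?_
    · rintro _ ⟨s, rfl⟩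
      rw [comodHom_apply (isComodHom_algebraMap hequiv) s]
      refine ⟨(IsScalarTower.toAlgHom k S R).toLinearMap.rangeRestrict.rTensor A (Comod.coact (k := k) (A := A) s), ?_⟩
      rw [← LinearMap.rTensor_comp_apply]
      rfl
    · rintro _ ⟨r₀, rfl⟩
      show Comod.coact (k := k) (A := A) (algebraMap R₀ R r₀) ∈ tens A _
      rw [show Comod.coact (k := k) (A := A) (algebraMap R₀ R r₀) = algebraMap R₀ R r₀ ⊗ₜ[k] (1 : A) from hmemR r₀]
      exact tmul_mem_tens (LinearMap.mem_range.2 ⟨r₀, rfl⟩) _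
  have hCmul : ∀ (r₀ : R₀), ∀ c ∈ C, algebraMap R₀ R r₀ * c ∈ C := by
    intro r₀ c hc
    induction hc using Submodule.mul_induction_on' with
    | mem_mul_mem a ha b hb =>
      obtain ⟨b, rfl⟩ := hb
      rw [mul_left_comm]
      exact Submodule.mul_mem_mul ha (LinearMap.mem_range.2 ⟨r₀ * b, map_mul (algebraMap R₀ R) r₀ b⟩)
    | add a _ b _ ha hb => rw [mul_add]; exact add_mem ha hb
  let L : Submodule R₀ (R ⊗[k] A) :=
    { carrier := W C
      add_mem' := fun ha hb => add_mem ha hb
      zero_mem' := zero_mem _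
      smul_mem' := fun r₀ p hp => by
        show r₀ • p ∈ W C
        rw [hsmul]; exact hWmul _ _ (hCmul r₀) p hp }
  have htop : (⊤ : Submodule k R) = C ⊔ (I ^ (N₁ + k₀ + 1)).restrictScalars k := by
    refine le_antisymm (fun f _ => ?_) le_top
    obtain ⟨s, hs⟩ := hthick (N₁ + k₀) f
    rw [← add_sub_cancel (algebraMap S R s) f]
    refine add_mem (Submodule.mem_sup_left ?_) (Submodule.mem_sup_right hs)
    rw [← mul_one (algebraMap S R s)]
    exact Submodule.mul_mem_mul ⟨s, rfl⟩ ⟨1, map_one (algebraMap R₀ R)⟩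
  have hle : M ≤ L ⊔ q • M := by
    intro m hm
    have hm2 : m ∈ W (C ⊔ (I ^ (N₁ + k₀ + 1)).restrictScalars k) := htop ▸ hm.2
    simp only [W, Submodule.map_sup, Submodule.sup_mul] at hm2
    obtain ⟨a, ha, b, hb, hab⟩ := Submodule.mem_sup.1 hm2
    rw [← (hE.fix m).2 hm.1, ← hab, map_add]
    refine add_mem (Submodule.mem_sup_left (hE.apply_mem hG (hWs _ hCs) ha)) (Submodule.mem_sup_right ?_)
    have hEb := hE.apply_mem hG (hWs _ (hIs _)) hb
    have hEbM : E b ∈ M := ⟨hE.mem b,
      (mul_le_mul' (Submodule.map_mono le_top) le_rfl : W ((I ^ (N₁ + k₀ + 1)).restrictScalars k) ≤ W ⊤) hEb⟩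
    exact hdeep _ hEbM (Submodule.smul_mono_left (Ideal.pow_le_pow_right (Nat.le_succ _)) (hWJ _ hEb))
  obtain ⟨t, htq, ht⟩ := Submodule.exists_sub_one_mem_and_smul_eq_zero_of_fg_of_le_smul q (M.map L.mkQ)
    (hMfg.map _) (by
      rintro _ ⟨m, hm, rfl⟩
      obtain ⟨a, ha, b, hb, hab⟩ := Submodule.mem_sup.1 (hle hm)
      rw [← Submodule.map_smul'', ← hab, map_add, show L.mkQ a = 0 from (Submodule.Quotient.mk_eq_zero L).2 ha, zero_add]
      exact Submodule.mem_map_of_mem hb)
  refine ⟨t, ?_, ?_⟩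
  · have h : x (algebraMap R₀ R (t - 1)) = 0 := htq
    rwa [map_sub, map_sub, map_one, map_one, sub_eq_zero] at h
  -- the canonical invariant of `r`
  let ξ := twistInv (k := k) (A := A) r
  have hξ : ξ ∈ M := by
    refine ⟨twistInv_fixed r, ?_⟩
    show twistInv r ∈ W ⊤
    rw [twistInv, hsr, map_sum]
    refine sum_mem fun p hp => ?_
    rw [LinearMap.lTensor_tmul, show p.1 ⊗ₜ[k] HopfAlgebraStruct.antipode (R := k) p.2 =
      iL p.1 * iR (HopfAlgebraStruct.antipode (R := k) p.2) by simp [iL, iR]]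
    exact Submodule.mul_mem_mul ⟨p.1, Submodule.mem_top, rfl⟩
      ⟨_, hUmem (Finset.mem_image.2 ⟨p, hp, rfl⟩), rfl⟩
  have hξL : iL (algebraMap R₀ R t) * ξ ∈ W C := by
    have := ht _ (Submodule.mem_map_of_mem hξ)
    rw [← map_smul, Submodule.mkQ_apply, Submodule.Quotient.mk_eq_zero] at this
    rw [← hsmul]
    exact this
  let π : R ⊗[k] A →ₐ[k] R := (Algebra.TensorProduct.rid k k R).toAlgHom.comp
    (Algebra.TensorProduct.map (AlgHom.id k R) (Bialgebra.counitAlgHom k A))
  have hπW : W C ≤ C.comap π.toLinearMap := by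
    refine Submodule.mul_le.2 fun a ha b hb => ?_
    obtain ⟨c, hc, rfl⟩ := ha
    obtain ⟨u, -, rfl⟩ := hb
    show π (iL c * iR u) ∈ C
    rw [show π (iL c * iR u) = Coalgebra.counit (R := k) u • c by simp [π, iL, iR]]
    exact Submodule.smul_mem _ _ hc
  have hπξ : π ξ = r := by
    have h := LinearMap.congr_fun (Comod.counit_comp (k := k) (A := A) (V := R)) r
    simp only [LinearMap.comp_apply, LinearMap.flip_apply, TensorProduct.mk_apply] at h
    have e : ∀ z : R ⊗[k] A, π ((HopfAlgebraStruct.antipode (R := k) (A := A)).lTensor R z) =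
        TensorProduct.rid k R ((CoalgebraStruct.counit (R := k) (A := A)).lTensor R z) := by
      intro z
      induction z with
      | zero => simp
      | add p q hp hq => simp only [map_add, hp, hq]
      | tmul c a => simp [π]
    rw [show π ξ = _ from e _, h]
    simp
  have hmem : algebraMap R₀ R t * r ∈ C := by
    have h := hπW hξL
    rw [Submodule.mem_comap, AlgHom.toLinearMap_apply, map_mul, hπξ,
      show π (iL (algebraMap R₀ R t)) = algebraMap R₀ R t by simp [π, iL]] at h
    exact h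
  generalize algebraMap R₀ R t * r = w at hmem
  induction hmem using Submodule.mul_induction_on' with
  | mem_mul_mem a ha b hb =>
    obtain ⟨s, rfl⟩ := ha
    obtain ⟨r₀, rfl⟩ := hb
    exact ⟨s ⊗ₜ[S₀] r₀, cmp_tmul s r₀⟩
  | add a _ b _ ha hb =>
    obtain ⟨z, hz⟩ := ha
    obtain ⟨z', hz'⟩ := hb
    exact ⟨z + z', by rw [map_add, hz, hz']⟩

end Groth.Agent.EtQuotH28
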